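import Cfsg.Agent.Lib.KKL.RedB

/-! # Blocks with defect group `C_{2^n} × 2^3`, given the count for the defect group `2^3` -/

set_option autoImplicit false

namespace CfsgLib.KKL

open Cfsg MonoidAlgebra CfsgLib.Char CfsgLib.Block CfsgLib.Blk CfsgLib.Star CfsgLib.Cover
open CfsgLib.BrPair (cS Cz Nz br emb res cj IsBlk SubLE sB cB MaxPair stN)

attribute [local implicit_reducible] CfsgLib.Block.K

universe u

theorem rc_zmod {m : ℕ} (a : ZMod (2 ^ (m + 1))) (ha : 2 ^ m • a ≠ 0) :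
    2 ^ m • a = (2 ^ m : ℕ) ∧ IsUnit a := by
  obtain ⟨k, rfl⟩ := ZMod.natCast_zmod_surjective a
  have h0 : ((2 ^ (m + 1) : ℕ) : ZMod (2 ^ (m + 1))) = 0 := ZMod.natCast_self _
  obtain ⟨j, rfl | rfl⟩ := Nat.even_or_odd' k
  · refine absurd ?_ ha
    rw [nsmul_eq_mul]
    push_cast at h0 ⊢
    linear_combination (j : ZMod (2 ^ (m + 1))) * h0
  · refine ⟨?_, (ZMod.isUnit_iff_coprime _ _).2 (Nat.Coprime.pow_right _ (Nat.coprime_two_right.2 (odd_two_mul_add_one j)))⟩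
    rw [nsmul_eq_mul]
    push_cast at h0 ⊢
    linear_combination (j : ZMod (2 ^ (m + 1))) * h0

theorem rc_model {A : Type*} [Group A] {m : ℕ}
    (φ : A ≃* Multiplicative (ZMod (2 ^ (m + 2)) × ZMod 2 × ZMod 2 × ZMod 2)) :
    (∀ x : A, x ^ 2 ^ (m + 2) = 1) ∧ (∃ g : A, g ^ 2 ^ (m + 1) ≠ 1) ∧
      (∀ x y : A, x ^ 2 ^ (m + 1) ≠ 1 → y ^ 2 ^ (m + 1) ≠ 1 → x ^ 2 ^ (m + 1) = y ^ 2 ^ (m + 1)) ∧
      ∀ x y : A, x ^ 2 ^ (m + 1) ≠ 1 → ∃ k : ℕ, y ^ 2 = x ^ (2 * k) := by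
  have h2 : ∀ (k : ℕ) (v : ZMod 2 × ZMod 2 × ZMod 2), (2 * k) • v = 0 := fun k v => by
    rw [mul_nsmul, show 2 • v = 0 by revert v; decide, nsmul_zero]
  have key : ∀ (x y : A) (i j : ℕ), x ^ (2 * i) = y ^ (2 * j) ↔
      (2 * i) • (φ x).toAdd.1 = (2 * j) • (φ y).toAdd.1 := fun x y i j => by
    rw [← φ.injective.eq_iff, map_pow, map_pow, ← Multiplicative.toAdd.injective.eq_iff, toAdd_pow, toAdd_pow,
      Prod.ext_iff, Prod.smul_snd, Prod.smul_snd, h2, h2]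
    simp
  have k1 : ∀ (x : A) (i : ℕ), x ^ 2 ^ (i + 1) = 1 ↔ 2 ^ (i + 1) • (φ x).toAdd.1 = 0 := fun x i => by
    have := key x 1 (2 ^ i) 0
    rwa [one_pow, mul_zero, zero_nsmul, ← pow_succ'] at this
  refine ⟨fun x => (k1 x _).2 ?_, ⟨φ.symm (Multiplicative.ofAdd (1, 0)), fun h => ?_⟩, fun x y hx hy => ?_,
    fun x y hx => ?_⟩
  · rw [nsmul_eq_mul, ZMod.natCast_self, zero_mul]
  · rw [k1, MulEquiv.apply_symm_apply, toAdd_ofAdd, nsmul_eq_mul, mul_one, ZMod.natCast_eq_zero_iff,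
      Nat.pow_dvd_pow_iff_le_right one_lt_two] at h
    omega
  · have := (key x y (2 ^ m) (2 ^ m)).2
    rw [← pow_succ'] at this
    exact this ((rc_zmod _ ((k1 x m).not.1 hx)).1.trans (rc_zmod _ ((k1 y m).not.1 hy)).1.symm)
  · obtain ⟨a, ha⟩ := (rc_zmod (m := m + 1) _ ((k1 x m).not.1 hx)).2.exists_left_inv
    obtain ⟨k, hk⟩ := ZMod.natCast_zmod_surjective ((φ y).toAdd.1 * a)
    refine ⟨k, ?_⟩
    have := (key y x 1 k).2 (by
      rw [mul_one, nsmul_eq_mul, nsmul_eq_mul, Nat.cast_mul, hk, mul_assoc, mul_assoc, ha, mul_one])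
    rwa [mul_one] at this

theorem rc_fix {G : Type*} [Group G] [Finite G] {T P : Subgroup G} (hT : T ≤ Nz P) (hab : P ≤ Cz P)
    (hn : ¬ 2 ∣ (Cz P).relIndex T) {k : ℕ} {g : P} (hg : g ^ k ≠ 1) (h2 : (g ^ k) ^ 2 = 1)
    (h1 : ∀ x y : P, x ^ k ≠ 1 → y ^ k ≠ 1 → x ^ k = y ^ k) : ∃ u : P, u ^ k ≠ 1 ∧ T ≤ Cu (u : G) := by
  classical
  let _ : CommGroup P := { (inferInstance : Group P) with
    mul_comm := fun a b => Subtype.ext (hab b.2 a a.2) }
  have := Fintype.ofFinite (cjP hT).range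
  refine ⟨∏ σ : (cjP hT).range, (σ : MulAut P) g, ?_, fun t ht => ?_⟩
  · rw [← Finset.prod_pow, Finset.prod_congr rfl (g := fun _ => g ^ k) fun σ _ =>
      h1 _ _ (by rwa [← map_pow, ne_eq, EmbeddingLike.map_eq_one_iff]) hg, Finset.prod_const, Finset.card_univ,
      ← Nat.card_eq_fintype_card, ← Subgroup.index_ker]
    have h3 : (cjP hT).ker = (Cz P).subgroupOf T := by
      ext t
      rw [MonoidHom.mem_ker, Subgroup.mem_subgroupOf, BrPair.mem_Cz]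
      refine ⟨fun h y hy => ?_, fun h => MulEquiv.ext fun y => Subtype.ext ?_⟩
      · have := coe_cjP hT t ⟨y, hy⟩
        rw [h, eq_mul_inv_iff_mul_eq] at this
        exact this
      · rw [coe_cjP, ← h y y.2, mul_inv_cancel_right]
        rfl
    rw [h3]
    exact fun h => hg ((pow_eq_one_iff_of_coprime ((Nat.prime_two.coprime_iff_not_dvd).2 hn)).1 ⟨h2, h⟩)
  · have e : cjP hT ⟨t, ht⟩ (∏ σ : (cjP hT).range, (σ : MulAut P) g) = ∏ σ : (cjP hT).range, (σ : MulAut P) g := by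
      rw [map_prod]
      exact Fintype.prod_equiv (Equiv.mulLeft ⟨_, ⟨t, ht⟩, rfl⟩) _ _ fun σ => rfl
    have := congrArg Subtype.val e
    rw [coe_cjP, mul_inv_eq_iff_eq_mul] at this
    exact mem_Cu.2 this.symm

/-- `u` of order `2^(m+1)` fixed by the inertial group, `D/⟨u⟩` elementary abelian of order `8` -/
theorem red_fix [Fact (Nat.Prime 2)] {M : Ideal AlgInt} (hM : IsPModular 2 M)
    (core : ∀ (H : Type u) [Group H] [Finite H] (B : Set (IrrCharacter H)), IsPBlock M B → ∀ D : Subgroup H,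
      IsDefectGroup 2 M B D → Nat.card D = 8 → (∀ x ∈ D, x ^ 2 = 1) → 8 ≤ Nat.card B)
    {G : Type u} [Group G] [Finite G] {B : Set (IrrCharacter G)} (hB : IsPBlock M B) {D : Subgroup G}
    {e : (K hM)[G]} (h : MaxPair 2 ⊤ ⊤ (eB hM B) D e) (hab : D ≤ Cz D) {m : ℕ} (hc : Nat.card D = 2 ^ (m + 1) * 8)
    (u : D) (ho : orderOf (u : G) = 2 ^ (m + 1)) (hT : stN ⊤ D e ≤ Cu (u : G))
    (hsq : ∀ x ∈ D, x ^ 2 ∈ Subgroup.zpowers (u : G)) :
    Nat.card B = 2 ^ (m + 4) ∧ (∀ χ ∈ B, blockHeight 2 B (χ : G → ℂ) = 0) ∧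
      (blockRank 2 B = 1 ∨ blockRank 2 B = 3 ∨ blockRank 2 B = 5 ∨ blockRank 2 B = 7) := by
  classical
  have := Fintype.ofFinite G
  have hQ : Subgroup.zpowers (u : G) ≤ D := Subgroup.zpowers_le.2 u.2
  -- Watanabe
  have h2 : stN (Cz ⊥) D e ≤ Cu (u : G) := fun t ht => hT ⟨⟨trivial, ht.1.2⟩, ht.2⟩
  have h3 := rk_sup_zpowers h hab bot_le u.2 h2
  have h4 := kk_sup_zpowers h hab bot_le u.2 h2
  have h5 : fL D e (Cz ⊥) = eB hM B :=
    fL_eq h hab bot_le (by rw [BrPair.Cz_bot]; exact BrPair.isBlk_eB hM hB) h.pair.br_mul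
  rw [bot_sup_eq, h5, BrPair.Cz_bot] at h3 h4
  rw [rk_top hB] at h3
  rw [kk_top hB] at h4
  -- the dominated block
  obtain ⟨X, _, _, ψ, hψ, a0, a1, a2, a3, a4, a5⟩ := rb_dom h hab hQ
  have a6 : Nat.card ((D.subgroupOf (Cz (Subgroup.zpowers (u : G)))).map ψ) = 8 := by
    rw [Nat.card_zpowers, ho, hc, mul_comm] at a4
    exact Nat.eq_of_mul_eq_mul_left (Nat.two_pow_pos _) a4
  have a7 := core X _ a1 _ a2 a6 (a5 hsq)
  have hu1 : (u : G) ∈ Cz (Subgroup.zpowers (u : G)) := le_Cz_of_ab hab hQ u.2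
  have a8 := ra_mul_le ψ hψ (maxPair_sub (maxPair_fL h hab hQ)) (fun x hx y hy => Subtype.ext (hab hx y hy))
    (isPBlock_blk (isBlk_fL h hab hQ)) (u := ⟨u, hu1⟩) u.2
    (eq_top_iff.2 fun x _ => mem_Cu.2 (Subtype.ext (BrPair.mem_Cz.1 x.2 u (Subgroup.mem_zpowers _))))
    (by rw [a0]; exact Subgroup.mem_zpowers (u : G)) (n := m) (by rw [← Subgroup.orderOf_coe]; exact ho)
  change _ ≤ kk hM _ _ at a8
  rw [h4] at a8
  -- a subsection of small rank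
  obtain ⟨w, hw, hw'⟩ : ∃ w ∈ D, w ∉ Subgroup.zpowers (u : G) := by
    by_contra! hw
    have := Subgroup.card_le_of_le (show D ≤ Subgroup.zpowers (u : G) from hw)
    rw [Nat.card_zpowers, ho, hc] at this
    have := Nat.two_pow_pos (m + 1)
    omega
  have hwQ : Subgroup.zpowers w ⊔ Subgroup.zpowers (u : G) ≤ D := sup_le (Subgroup.zpowers_le.2 hw) hQ
  have b1 : Nat.card (Subgroup.zpowers w ⊔ Subgroup.zpowers (u : G) : Subgroup G) = 2 * 2 ^ (m + 1) := by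
    have hi : (Subgroup.zpowers (u : G)).relIndex (Subgroup.zpowers w ⊔ Subgroup.zpowers (u : G)) = 2 := by
      have hcm : ∀ {a b : G}, a ∈ D → b ∈ D → a * b = b * a := fun ha hb => hab hb _ ha
      let S : Subgroup G :=
        { carrier := {b | b ∈ D ∧ (b ∈ Subgroup.zpowers (u : G) ∨ b * w ∈ Subgroup.zpowers (u : G))}
          one_mem' := ⟨one_mem _, Or.inl (one_mem _)⟩
          mul_mem' := by
            rintro a b ⟨ha, ha' | ha'⟩ ⟨hb, hb' | hb'⟩ <;> refine ⟨mul_mem ha hb, ?_⟩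
            · exact Or.inl (mul_mem ha' hb')
            · exact Or.inr (mul_assoc a b w ▸ mul_mem ha' hb')
            · exact Or.inr (by rw [hcm ha hb, mul_assoc]; exact mul_mem hb' ha')
            · refine Or.inl ((mul_mem_cancel_right (hsq w hw)).1 ?_)
              have := mul_mem ha' hb'
              rwa [mul_assoc, ← mul_assoc w, hcm hw hb, mul_assoc b, ← sq, ← mul_assoc] at this
          inv_mem' := by
            rintro a ⟨ha, ha' | ha'⟩ <;> refine ⟨inv_mem ha, ?_⟩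
            · exact Or.inl (inv_mem ha')
            · have := mul_mem (inv_mem ha') (hsq w hw)
              rw [hcm ha hw, mul_inv_rev, sq, mul_assoc, inv_mul_cancel_left] at this
              exact Or.inr this }
      have hS : Subgroup.zpowers w ⊔ Subgroup.zpowers (u : G) ≤ S :=
        sup_le (Subgroup.zpowers_le.2 ⟨hw, Or.inr (sq w ▸ hsq w hw)⟩) fun x hx => ⟨hQ hx, Or.inl hx⟩
      refine Subgroup.relIndex_eq_two_iff.2 ⟨w, Subgroup.mem_sup_left (Subgroup.mem_zpowers w), fun b hb => ?_⟩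
      by_cases h0 : b ∈ Subgroup.zpowers (u : G)
      · exact Or.inr ⟨h0, fun h1 => hw' ((mul_mem_cancel_left h0).1 h1)⟩
      · exact Or.inl ⟨(hS hb).2.resolve_left h0, h0⟩
    rw [← ho, ← Nat.card_zpowers, ← Nat.card_congr (Subgroup.subgroupOfEquivOfLe
      (le_sup_right : Subgroup.zpowers (u : G) ≤ Subgroup.zpowers w ⊔ _)).toEquiv, ← hi]
    exact (Subgroup.index_mul_card _).symm
  have b2 := rb_rk h hab hwQ (by rw [b1, hc]; ring) fun x hx => Subgroup.mem_sup_right (hsq x hx)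
  rw [rk_sup_zpowers h hab (Subgroup.zpowers_le.2 hw) u.2 fun t ht => hT ⟨⟨trivial, ht.1.2⟩, ht.2⟩,
    ← rb_rank_bu h hab hw] at b2
  obtain ⟨c1, c2⟩ := rb_ht h hab hB hw (by omega) (hc.le.trans ((Nat.mul_le_mul_left _ a7).trans a8))
  refine ⟨by rw [c1, hc]; ring, c2, ?_⟩
  rw [← h3, ← a3]
  refine rb_eight hM a1 a2 a6 (a5 hsq) (le_antisymm ?_ a7)
  rw [c1, hc] at a8
  exact Nat.le_of_mul_le_mul_left a8 (Nat.two_pow_pos _)

theorem red {M : Ideal AlgInt} (hM : IsPModular 2 M)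
    (core : ∀ (H : Type u) [Group H] [Finite H] (B : Set (IrrCharacter H)), IsPBlock M B → ∀ D : Subgroup H,
      IsDefectGroup 2 M B D → Nat.card D = 8 → (∀ x ∈ D, x ^ 2 = 1) → 8 ≤ Nat.card B)
    {G : Type u} [Group G] [Finite G] (B : Set (IrrCharacter G)) (hB : IsPBlock M B) (D : Subgroup G)
    (hD : IsDefectGroup 2 M B D) (n : ℕ) (hn : 2 ≤ n)
    (hiso : Nonempty (D ≃* Multiplicative (ZMod (2 ^ n) × ZMod 2 × ZMod 2 × ZMod 2))) :
    Nat.card B = 2 ^ (n + 3) ∧ (∀ χ ∈ B, blockHeight 2 B (χ : G → ℂ) = 0) ∧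
      (blockRank 2 B = 1 ∨ blockRank 2 B = 3 ∨ blockRank 2 B = 5 ∨ blockRank 2 B = 7) := by
  classical
  have : Fact (Nat.Prime 2) := ⟨Nat.prime_two⟩
  have := Fintype.ofFinite G
  obtain ⟨φ⟩ := hiso
  obtain ⟨m, rfl⟩ := Nat.exists_eq_add_of_le' hn
  obtain ⟨e, h⟩ := BrPair.exists_maxPair_of_isDef le_rfl BrPair.top_le_Nz_top (BrPair.isBlk_eB hM hB)
    ((BrPair.isDefectGroup_iff hM hB).1 hD)
  have hab : D ≤ Cz D := fun x hx y hy =>
    congrArg Subtype.val (φ.injective (a₁ := ⟨y, hy⟩ * ⟨x, hx⟩) (a₂ := ⟨x, hx⟩ * ⟨y, hy⟩) (by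
      rw [map_mul, map_mul, mul_comm]))
  have hc : Nat.card D = 2 ^ (m + 2) * 8 := by
    rw [Nat.card_congr φ.toEquiv, Nat.card_congr Multiplicative.toAdd]
    simp only [Nat.card_prod, Nat.card_zmod]
  obtain ⟨m1, ⟨g, hg⟩, m3, m4⟩ := rc_model φ
  obtain ⟨u, hu, hT⟩ := rc_fix (T := stN ⊤ D e) (inf_le_left.trans inf_le_right) hab (ab_not_dvd_relIndex h hab) hg
    (by rw [← pow_mul, ← pow_succ, m1]) m3
  have ho : orderOf (u : G) = 2 ^ (m + 2) := by rw [Subgroup.orderOf_coe]; exact orderOf_eq_prime_pow hu (m1 u)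
  refine red_fix hM core hB h hab (m := m + 1) hc u ho hT fun x hx => ?_
  · obtain ⟨k, hk⟩ := m4 u ⟨x, hx⟩ hu
    rw [show x ^ 2 = (u : G) ^ (2 * k) from congrArg Subtype.val hk]
    exact Subgroup.npow_mem_zpowers _ _

end CfsgLib.KKL
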