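import Mathlib

/-! An integer matrix lemma: contributions of a block with defect group `2^3`. -/

set_option autoImplicit false

namespace CfsgLib.KKL

theorem kill_vec {ι : Type*} [DecidableEq ι] (s : Finset ι) (A : ι → ι → ℤ) (sym : ∀ i j, A i j = A j i)
    (sq : ∀ i ∈ s, ∀ j ∈ s, ∑ k ∈ s, A i k * A k j = 8 * A i j)
    (EV : ∀ x : ι → ℤ, (∀ i ∈ s, ∑ j ∈ s, A i j * x j = 8 * x i) → Even (∑ i ∈ s, x i ^ 2))
    {p i j : ι} (hp : p ∈ s) (hi : i ∈ s) (hj : j ∈ s) (pi : p ≠ i) (pj : p ≠ j) (ij : i ≠ j) {a b : ℤ}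
    (ha : a * a = 1) (hb : b * b = 1)
    (H : A p p + A i i + A j j + 2 * a * A p i + 2 * b * A p j + 2 * a * b * A i j = 24) : False := by
  set x : ι → ℤ := fun k => (if k = p then 1 else 0) + (if k = i then a else 0) + (if k = j then b else 0) with hx
  have key : ∀ f : ι → ℤ, ∑ k ∈ s, f k * x k = f p + f i * a + f j * b := fun f => by
    simp only [hx, mul_add, Finset.sum_add_distrib, mul_ite, mul_zero, mul_one, Finset.sum_ite_eq', if_pos hp,
      if_pos hi, if_pos hj]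
  have xp : x p = 1 := by simp [hx, pi, pj]
  have xi : x i = a := by simp [hx, pi.symm, ij]
  have xj : x j = b := by simp [hx, pj.symm, ij.symm]
  have n3 : ∑ k ∈ s, x k ^ 2 = 3 := by
    simp only [pow_two]
    rw [key, xp, xi, xj, ha, hb]; norm_num
  have z : ∑ k ∈ s, (A k p + A k i * a + A k j * b - 8 * x k) ^ 2 = 0 := by
    have e : ∀ k ∈ s, (A k p + A k i * a + A k j * b - 8 * x k) ^ 2 =
        A p k * A k p + a * a * (A i k * A k i) + b * b * (A j k * A k j) + 2 * a * (A p k * A k i) +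
          2 * b * (A p k * A k j) + 2 * a * b * (A i k * A k j) -
          16 * ((A k p + A k i * a + A k j * b) * x k) + 64 * x k ^ 2 := fun k _ => by
      rw [sym p k, sym i k, sym j k]; ring
    rw [Finset.sum_congr rfl e]
    simp only [Finset.sum_add_distrib, Finset.sum_sub_distrib, ← Finset.mul_sum]
    rw [sq p hp p hp, sq i hi i hi, sq j hj j hj, sq p hp i hi, sq p hp j hj, sq i hi j hj, n3,
      key fun k => A k p + A k i * a + A k j * b, sym i p, sym j p, sym j i]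
    linear_combination (-8) * H + (-8 * A i i) * ha + (-8 * A j j) * hb
  have := EV x fun k hk => by
    have := (Finset.sum_eq_zero_iff_of_nonneg fun _ _ => sq_nonneg _).1 z k hk
    rw [key, ← sub_eq_zero]
    exact pow_eq_zero_iff two_ne_zero |>.1 this
  rw [n3] at this
  exact absurd this (by decide)

theorem kill {ι : Type*} [DecidableEq ι] (s : Finset ι) (A : ι → ι → ℤ) (h : ι → ℕ) (R : ℤ)
    (sym : ∀ i j, A i j = A j i) (sq : ∀ i ∈ s, ∀ j ∈ s, ∑ k ∈ s, A i k * A k j = 8 * A i j)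
    (h0 : ∃ i ∈ s, h i = 0) (od : ∀ i ∈ s, ∀ j ∈ s, h i = 0 → h j = 0 → Odd (A i j))
    (ev : ∀ i ∈ s, ∀ j ∈ s, h i ≠ 0 → Even (A i j)) (ne : ∀ i ∈ s, ∀ j ∈ s, h i = 0 → A i j ≠ 0)
    (tr : ∑ i ∈ s, (8 - A i i) = 8 * R) (cg : ∀ i ∈ s, h i = 0 → (8:ℤ) ∣ 8 - A i i - R)
    (EV : ∀ x : ι → ℤ, (∀ i ∈ s, ∑ j ∈ s, A i j * x j = 8 * x i) → Even (∑ i ∈ s, x i ^ 2)) :
    8 ≤ s.card := by
  by_contra hk
  set S := s.filter fun i => h i = 0 with hS
  set T := s.filter fun i => ¬ h i = 0 with hT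
  have mS : ∀ {i}, i ∈ S → i ∈ s ∧ h i = 0 := fun hi => Finset.mem_filter.1 hi
  have mT : ∀ {i}, i ∈ T → i ∈ s ∧ h i ≠ 0 := fun hi => Finset.mem_filter.1 hi
  have cd : S.card + T.card = s.card := Finset.card_filter_add_card_filter_not _
  have sp : ∀ f : ι → ℤ, ∑ k ∈ S, f k + ∑ k ∈ T, f k = ∑ k ∈ s, f k := fun f =>
    Finset.sum_filter_add_sum_filter_not _ _ _
  have row : ∀ i ∈ s, ∑ k ∈ S, A i k ^ 2 + ∑ k ∈ T, A i k ^ 2 = 8 * A i i := fun i hi => by
    rw [sp, ← sq i hi i hi]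
    exact Finset.sum_congr rfl fun k _ => by rw [pow_two, sym k i]
  have o8 : ∀ i ∈ S, (8:ℤ) ∣ ∑ k ∈ S, A i k ^ 2 - S.card := fun i hi => by
    rw [Finset.card_eq_sum_ones, Nat.cast_sum, ← Finset.sum_sub_distrib]
    refine Finset.dvd_sum fun k hk => ?_
    obtain ⟨m, hm⟩ := od i (mS hi).1 k (mS hk).1 (mS hi).2 (mS hk).2
    obtain ⟨r, hr⟩ := Int.even_mul_succ_self m
    exact ⟨r, by rw [hm]; push_cast; linear_combination 4 * hr⟩
  obtain ⟨i, his, hi0⟩ := h0
  have hi : i ∈ S := Finset.mem_filter.2 ⟨his, hi0⟩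
  have c4 : S.card = 4 := by
    have e1 := row i his
    have e2 := o8 i hi
    have e3 : (4:ℤ) ∣ ∑ k ∈ T, A i k ^ 2 := Finset.dvd_sum fun k hk => by
      obtain ⟨m, hm⟩ := ev k (mT hk).1 i his (mT hk).2
      exact ⟨m ^ 2, by rw [sym i k, hm]; ring⟩
    have := Finset.card_pos.2 ⟨i, hi⟩
    omega
  have t1 : ∀ p ∈ T, A p p = 4 ∧ (∀ k ∈ S, A p k ^ 2 = 4) ∧ ∀ q ∈ T, q ≠ p → A p q = 0 := fun p hp => by
    have e1 := row p (mT hp).1
    have g : ∀ k ∈ S, 0 ≤ A p k ^ 2 - 4 := fun k hk => by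
      obtain ⟨m, hm⟩ := ev p (mT hp).1 k (mS hk).1 (mT hp).2
      have n := ne k (mS hk).1 p (mT hp).1 (mS hk).2
      rw [sym k p, hm] at n
      have : 0 < m ^ 2 := sq_pos_of_ne_zero fun e => n (by rw [e, add_zero])
      rw [hm]; nlinarith
    have e2 : ∑ k ∈ S, (A p k ^ 2 - 4) = ∑ k ∈ S, A p k ^ 2 - 16 := by
      rw [Finset.sum_sub_distrib, Finset.sum_const, c4]; norm_num
    have e3 := Finset.sum_nonneg g
    rw [← Finset.add_sum_erase _ _ hp] at e1
    have e4 : 0 ≤ ∑ k ∈ T.erase p, A p k ^ 2 := Finset.sum_nonneg fun _ _ => sq_nonneg _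
    have e5 := sq_nonneg (A p p - 4)
    have e6 : (A p p - 4) ^ 2 = 0 := by nlinarith
    have e7 : A p p = 4 := by have := pow_eq_zero_iff two_ne_zero |>.1 e6; omega
    rw [e7] at e1
    refine ⟨e7, fun k hk => ?_, fun q hq n => ?_⟩
    · have := (Finset.sum_eq_zero_iff_of_nonneg g).1 (by omega) k hk
      omega
    · exact pow_eq_zero_iff two_ne_zero |>.1 ((Finset.sum_eq_zero_iff_of_nonneg fun _ _ => sq_nonneg _).1
        (by omega : ∑ k ∈ T.erase p, A p k ^ 2 = 0) q (Finset.mem_erase.2 ⟨n, hq⟩))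
  have t2 : ∀ i ∈ S, ∑ k ∈ T, A i k ^ 2 = 4 * T.card := fun i hi => by
    rw [Finset.sum_congr rfl fun k hk => (by rw [sym i k]; exact (t1 k hk).2.1 i hi : A i k ^ 2 = 4),
      Finset.sum_const, nsmul_eq_mul, mul_comm]
  have cT : T.card = 1 ∨ T.card = 3 := by
    have e1 := row i his
    have e2 := o8 i hi
    rw [t2 i hi] at e1
    omega
  have g1 : ∀ i ∈ S, ∀ k ∈ S.erase i, 0 ≤ A i k ^ 2 - 1 := fun i hi k hk => by
    have n := ne i (mS hi).1 k (mS (Finset.mem_of_mem_erase hk)).1 (mS hi).2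
    have : 0 < A i k ^ 2 := by positivity
    omega
  have r3 : ∀ i ∈ S, A i i ^ 2 + 3 + ∑ k ∈ S.erase i, (A i k ^ 2 - 1) + 4 * T.card = 8 * A i i := fun i hi => by
    have e1 := row i (mS hi).1
    rw [t2 i hi, ← Finset.add_sum_erase _ _ hi] at e1
    rw [Finset.sum_sub_distrib, Finset.sum_const, Finset.card_erase_of_mem hi, c4]
    simp only [nsmul_eq_mul]
    push_cast
    linarith
  have bd : ∀ i ∈ S, 0 < A i i ∧ A i i < 8 := fun i hi => by
    have e1 := r3 i hi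
    have e2 := Finset.sum_nonneg (g1 i hi)
    have e3 : (0:ℤ) ≤ T.card := by positivity
    constructor <;> nlinarith
  have cs : ∀ k ∈ S, A k k = A i i := fun k hk => by
    have := bd k hk
    have := bd i hi
    have := cg k (mS hk).1 (mS hk).2
    have := cg i his hi0
    omega
  have ci : A i i = 8 - T.card := by
    rw [← sp, Finset.sum_congr rfl fun k hk => (by rw [cs k hk] : 8 - A k k = 8 - A i i),
      Finset.sum_congr rfl fun k hk => (by rw [(t1 k hk).1] : 8 - A k k = 8 - 4), Finset.sum_const,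
      Finset.sum_const, c4] at tr
    simp only [nsmul_eq_mul] at tr
    have := bd i hi
    have := cg i his hi0
    rcases cT with e | e <;> rw [e] at tr ⊢ <;> push_cast at tr ⊢ <;> omega
  have u1 : ∀ k ∈ S.erase i, A i k ^ 2 = 1 := fun k hk => by
    have e1 := r3 i hi
    have := (Finset.sum_eq_zero_iff_of_nonneg (g1 i hi)).1 (by
      rw [ci] at e1
      rcases cT with e | e <;> rw [e] at e1 <;> push_cast at e1 <;> omega) k hk
    omega
  obtain ⟨p, hp⟩ : T.Nonempty := Finset.card_pos.1 (by omega)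
  obtain ⟨p4, p2, p0⟩ := t1 p hp
  have al : ∀ k ∈ S, A p k = 2 ∨ A p k = -2 := fun k hk =>
    sq_eq_sq_iff_eq_or_eq_neg.1 ((p2 k hk).trans (by norm_num))
  have e1 := sq i his p (mT hp).1
  rw [← sp, ← Finset.add_sum_erase _ _ hi, Finset.sum_eq_single_of_mem p hp fun q hq n => by
    rw [sym q p, p0 q hq n, mul_zero], p4, sym i p] at e1
  obtain ⟨j, hj, hj'⟩ : ∃ j ∈ S.erase i, A i j * A p j * A p i = 4 * (T.card - 2) := by
    by_contra! hc
    have e2 : ∑ k ∈ S.erase i, A i k * A k p * A p i = ∑ k ∈ S.erase i, -(4 * ((T.card : ℤ) - 2)) :=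
      Finset.sum_congr rfl fun k hk => by
        have a1 := hc k hk
        have a2 := sq_eq_one_iff.1 (u1 k hk)
        rw [sym k p]
        rcases a2 with a2 | a2 <;> rcases al k (Finset.mem_of_mem_erase hk) with a3 | a3 <;>
          rcases al i hi with a4 | a4 <;> rcases cT with e | e <;> rw [a2, a3, a4, e] at a1 ⊢ <;>
          first | exact absurd rfl a1 | rfl
    rw [← Finset.sum_mul, Finset.sum_const, Finset.card_erase_of_mem hi, c4] at e2
    simp only [nsmul_eq_mul] at e2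
    rw [ci] at e1
    rcases al i hi with a4 | a4 <;> rcases cT with e | e <;> rw [a4, e] at e1 e2 <;> push_cast at e1 e2 <;> omega
  have hjS := Finset.mem_of_mem_erase hj
  have ne' : ∀ {k}, k ∈ S → p ≠ k := fun hk e => (mT hp).2 (e ▸ (mS hk).2)
  refine kill_vec s A sym sq EV (mT hp).1 his (mS hjS).1 (ne' hi) (ne' hjS) (Finset.ne_of_mem_erase hj).symm
    (a := A p i / 2) (b := A p j / 2) ?_ ?_ ?_
  · rcases al i hi with a | a <;> rw [a] <;> norm_num
  · rcases al j hjS with a | a <;> rw [a] <;> norm_num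
  · rw [cs j hjS, ci, p4]
    rcases al i hi with a | a <;> rcases al j hjS with b | b <;> rw [a, b] at hj' ⊢ <;> norm_num <;> omega

end CfsgLib.KKL
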