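import Cfsg.Agent.Lib.KKL.RedB
import Cfsg.Agent.Lib.Cyc.Bound

/-! # Contributions of a nontrivial subsection of a block with defect group `2^3` -/

set_option autoImplicit false

namespace CfsgLib.KKL

open Cfsg MonoidAlgebra CfsgLib.Char CfsgLib.Block CfsgLib.Blk CfsgLib.Star CfsgLib.Cover CfsgLib.Cyc
open CfsgLib.BrPair (cS Cz Nz br emb res cj IsBlk SubLE sB cB MaxPair stN)
open scoped ComplexConjugate

attribute [local implicit_reducible] CfsgLib.Block.K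

theorem lo_rank1 {ι : Type*} {s : Finset ι} (E : ι → ι → ℤ) (h4 : s.card = 4)
    (sym : ∀ i j, E i j = E j i) (h1 : ∀ i ∈ s, ∀ j ∈ s, E i j ^ 2 = 1)
    (sq : ∀ i ∈ s, ∀ j ∈ s, ∑ k ∈ s, E i k * E k j = 4 * E i j) :
    ∃ ε : ι → ℤ, (∀ i ∈ s, ε i ^ 2 = 1) ∧ ∀ i ∈ s, ∀ j ∈ s, E i j = ε i * ε j := by
  obtain ⟨o, ho⟩ := Finset.card_pos.1 (show 0 < s.card by omega)
  refine ⟨fun i => E i o, fun i hi => h1 i hi o ho, fun i hi j hj => ?_⟩
  have h2 : ∑ k ∈ s, (E i j - E i k * E k j) ^ 2 = 0 := by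
    rw [Finset.sum_congr rfl (g := fun k => 2 - 2 * E i j * (E i k * E k j)) fun k hk => by
      linear_combination h1 i hi j hj + E k j ^ 2 * h1 i hi k hk + h1 k hk j hj,
      Finset.sum_sub_distrib, ← Finset.mul_sum, sq i hi j hj, Finset.sum_const, h4]
    simp only [nsmul_eq_mul]
    push_cast
    linear_combination (-8) * h1 i hi j hj
  have h3 := (Finset.sum_eq_zero_iff_of_nonneg fun k _ => sq_nonneg _).1 h2 o ho
  change E i j = E i o * E j o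
  rw [sym j o]
  exact sub_eq_zero.1 (pow_eq_zero_iff two_ne_zero |>.1 h3)

theorem lo_int {ι : Type*} {s : Finset ι} (a : ι → ι → ℤ) (sym : ∀ i j, a i j = a j i)
    (od : ∀ i ∈ s, ∀ j ∈ s, Odd (a i j)) (sq : ∀ i ∈ s, ∀ j ∈ s, ∑ k ∈ s, a i k * a k j = 4 * a i j)
    {l : ℤ} (hl : l = 1 ∨ l = 3) (tr : ∑ i ∈ s, a i i = 4 * l) (r : ι → ℤ)
    (hn : Odd (∑ i ∈ s, r i * ∑ j ∈ s, r j * a i j)) : 8 ∣ ∑ i ∈ s, r i * ∑ j ∈ s, r j * a i j - l := by
  classical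
  have p1 : ∀ i ∈ s, ∀ j ∈ s, 1 ≤ a i j ^ 2 := fun i hi j hj => by
    have : a i j ≠ 0 := by rintro e; exact absurd (e ▸ od i hi j hj) (by decide)
    exact Int.add_one_le_iff.2 (by positivity : 0 < a i j ^ 2)
  have d0 : ∀ i ∈ s, ∑ k ∈ s.erase i, a i k ^ 2 = 4 * a i i - a i i ^ 2 := fun i hi => by
    rw [← sq i hi i hi, ← Finset.add_sum_erase _ _ hi, Finset.sum_congr rfl (g := fun k => a i k * a k i) fun k _ => by
      rw [sym k i, _root_.sq]]
    ring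
  have d1 : ∀ i ∈ s, (a i i = 1 ∨ a i i = 3) := fun i hi => by
    have h1 : 0 ≤ 4 * a i i - a i i ^ 2 := d0 i hi ▸ Finset.sum_nonneg fun k _ => sq_nonneg _
    have h2 : 0 ≤ a i i := by nlinarith
    have h3 : a i i ≤ 4 := by nlinarith
    obtain ⟨c, hc⟩ := od i hi i hi
    omega
  have d2 : ∀ i ∈ s, ∑ k ∈ s.erase i, (a i k ^ 2 - 1) = (4 : ℤ) - (s.card : ℤ) := fun i hi => by
    rw [Finset.sum_sub_distrib, d0 i hi, Finset.sum_const, Finset.card_erase_of_mem hi, nsmul_eq_mul,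
      Nat.cast_sub (Finset.card_pos.2 ⟨i, hi⟩)]
    rcases d1 i hi with e | e <;> rw [e] <;> push_cast <;> ring
  obtain ⟨o, ho⟩ : s.Nonempty := by
    rw [Finset.nonempty_iff_ne_empty]
    rintro rfl
    simp at tr
    omega
  have h4 : s.card = 4 := by
    have h1 : (8 : ℤ) ∣ (4 : ℤ) - (s.card : ℤ) := d2 o ho ▸ Finset.dvd_sum fun k hk =>
      Int.eight_dvd_sq_sub_one_of_odd (od o ho k (Finset.mem_of_mem_erase hk))
    have h2 : (0 : ℤ) ≤ (4 : ℤ) - (s.card : ℤ) := d2 o ho ▸ Finset.sum_nonneg fun k hk =>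
      sub_nonneg.2 (p1 o ho k (Finset.mem_of_mem_erase hk))
    omega
  have d3 : ∀ i ∈ s, ∀ k ∈ s, k ≠ i → a i k ^ 2 = 1 := fun i hi k hk hne => by
    have h1 := d2 i hi
    rw [h4, show (4 : ℤ) - (4 : ℕ) = 0 by norm_num] at h1
    exact sub_eq_zero.1 ((Finset.sum_eq_zero_iff_of_nonneg fun k hk =>
      sub_nonneg.2 (p1 i hi k (Finset.mem_of_mem_erase hk))).1 h1 k (Finset.mem_erase.2 ⟨hne, hk⟩))
  have d4 : ∀ i ∈ s, a i i = l := fun i hi => by
    have h1 : ∑ k ∈ s, (a k k - l) ^ 2 = 0 := by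
      rw [Finset.sum_congr rfl (g := fun k => (4 - 2 * l) * a k k + (l ^ 2 - 3)) fun k hk => by
        rcases d1 k hk with e | e <;> rw [e] <;> ring, Finset.sum_add_distrib, ← Finset.mul_sum, tr,
        Finset.sum_const, h4]
      rcases hl with rfl | rfl <;> norm_num
    exact sub_eq_zero.1 (pow_eq_zero_iff two_ne_zero |>.1
      ((Finset.sum_eq_zero_iff_of_nonneg fun k _ => sq_nonneg _).1 h1 i hi))
  rcases hl with rfl | rfl
  · obtain ⟨ε, e1, e2⟩ := lo_rank1 a h4 sym (fun i hi j hj => by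
      by_cases e : j = i
      · rw [e, d4 i hi, one_pow]
      · exact d3 i hi j hj e) sq
    have h1 : ∑ i ∈ s, r i * ∑ j ∈ s, r j * a i j = (∑ i ∈ s, r i * ε i) ^ 2 := by
      rw [_root_.sq, Finset.sum_mul]
      refine Finset.sum_congr rfl fun i hi => ?_
      rw [Finset.mul_sum, Finset.mul_sum]
      exact Finset.sum_congr rfl fun j hj => by rw [e2 i hi j hj]; ring
    rw [h1] at hn ⊢
    exact Int.eight_dvd_sq_sub_one_of_odd ((Int.odd_pow' two_ne_zero).1 hn)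
  · obtain ⟨ε, e1, e2⟩ := lo_rank1 (fun i j => (if i = j then 4 else 0) - a i j) h4
      (fun i j => by rw [sym i j, if_congr eq_comm rfl rfl]) (fun i hi j hj => by
      by_cases e : i = j
      · rw [if_pos e, ← e, d4 i hi]; norm_num
      · rw [if_neg e, zero_sub, neg_sq]; exact d3 i hi j hj (Ne.symm e)) (fun i hi j hj => by
      simp only [sub_mul, mul_sub, Finset.sum_sub_distrib, ite_mul, mul_ite, zero_mul, mul_zero,
        Finset.sum_ite_eq, Finset.sum_ite_eq', if_pos hi, if_pos hj, sq i hi j hj]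
      split_ifs <;> ring)
    have h1 : ∑ i ∈ s, r i * ∑ j ∈ s, r j * a i j = 4 * ∑ i ∈ s, r i ^ 2 - (∑ i ∈ s, r i * ε i) ^ 2 := by
      rw [_root_.sq, Finset.sum_mul, Finset.mul_sum, ← Finset.sum_sub_distrib]
      refine Finset.sum_congr rfl fun i hi => ?_
      rw [Finset.sum_congr rfl (g := fun j => (if i = j then 4 * r j else 0) - ε i * (r j * ε j)) fun j hj => by
        have := e2 i hi j hj
        split_ifs at this ⊢ <;> linear_combination (-r j) * this,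
        Finset.sum_sub_distrib, Finset.sum_ite_eq, if_pos hi, ← Finset.mul_sum]
      ring
    have h2 : 2 ∣ ∑ i ∈ s, r i ^ 2 - ∑ i ∈ s, r i * ε i := by
      rw [← Finset.sum_sub_distrib]
      refine Finset.dvd_sum fun i hi => ?_
      rcases sq_eq_one_iff.1 (e1 i hi) with e | e <;> rw [e]
      · have := (Int.even_mul_pred_self (r i)).two_dvd
        convert this using 1; ring
      · have := (Int.even_mul_succ_self (r i)).two_dvd
        convert this using 1; ring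
    rw [h1] at hn ⊢
    generalize ∑ i ∈ s, r i ^ 2 = T at *
    generalize ∑ i ∈ s, r i * ε i = S at *
    have h3 : Odd S := by
      refine (Int.odd_pow' two_ne_zero).1 ?_
      obtain ⟨c, hc⟩ := hn
      exact ⟨2 * T - c - 1, by linarith⟩
    have h5 := Int.eight_dvd_sq_sub_one_of_odd h3
    obtain ⟨c, hc⟩ := h3
    omega

theorem lo_fib {κ ι : Type*} [DecidableEq ι] {t : Finset κ} {s : Finset ι} {f : κ → ι} (hf : ∀ x ∈ t, f x ∈ s)
    (c : κ → ℤ) (F : ι → ℤ) : ∑ x ∈ t, c x * F (f x) = ∑ i ∈ s, (∑ x ∈ t with f x = i, c x) * F i := by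
  rw [← Finset.sum_fiberwise_of_maps_to hf]
  refine Finset.sum_congr rfl fun i _ => ?_
  rw [Finset.sum_mul]
  exact Finset.sum_congr rfl fun x hx => by rw [(Finset.mem_filter.1 hx).2]

variable {G : Type*} [Group G] [Fintype G] {M : Ideal AlgInt} {B : Set (IrrCharacter G)} {D : Subgroup G}

theorem lo_ast (hM : IsPModular 2 M) (hB : IsPBlock M B) (hD : IsDefectGroup 2 M B D) (hab : D ≤ Cz D) {z : G}
    (hz : z ∈ D) (hc : z ∈ Subgroup.center G) (ho : orderOf z = 2) {ξ : IrrCharacter G} (hξ : ξ ∈ B) :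
    ∃ ψ ∈ B, pRegularPart 2 (ψ : G → ℂ) = pRegularPart 2 (ξ : G → ℂ) ∧ (ψ : G → ℂ) z = (ψ : G → ℂ) 1 := by
  classical
  have : Fact (Nat.Prime 2) := ⟨Nat.prime_two⟩
  have : ∀ u : G, Fintype (Cu u) := fun u => Fintype.ofFinite _
  by_cases h0 : (ξ : G → ℂ) z = (ξ : G → ℂ) 1
  · exact ⟨ξ, hξ, rfl, h0⟩
  have x0 := irr_one_ne_zero ξ.2
  have h1 : (ξ : G → ℂ) z = -(ξ : G → ℂ) 1 := by
    have h1 := irr_central_root ξ.2 hc
    rw [ho, div_pow, div_eq_one_iff_eq (pow_ne_zero _ x0), sq_eq_sq_iff_eq_or_eq_neg] at h1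
    exact h1.resolve_left h0
  obtain ⟨e, h⟩ := BrPair.exists_maxPair_of_isDef le_rfl BrPair.top_le_Nz_top (BrPair.isBlk_eB hM hB)
    ((BrPair.isDefectGroup_iff hM hB).1 hD)
  have hc' : Cu z = ⊤ := eq_top_iff.2 fun x _ => mem_Cu.2 (Subgroup.mem_center_iff.1 hc x).symm
  obtain ⟨ν, hν, hν'⟩ := exists_norm (T := stN ⊤ D e) (inf_le_left.trans inf_le_right) hab
    h.pgroup (ab_not_dvd_relIndex h hab)
  let _ : CommGroup D := { (inferInstance : Group D) with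
    mul_comm := fun a b => Subtype.ext (hab b.2 a a.2) }
  have : NeZero (Monoid.exponent D) := ⟨Monoid.exponent_ne_zero_of_finite⟩
  obtain ⟨μ, hμ⟩ := CommGroup.exists_apply_ne_one_of_hasEnoughRootsOfUnity D ℂ (a := ν ⟨z, hz⟩) fun h1 => by
    have h2 : z = 1 := congrArg Subtype.val (hν' ⟨z, hz⟩ (le_top.trans hc'.ge) h1)
    rw [h2, orderOf_one] at ho
    omega
  have h2 : (μ (ν ⟨z, hz⟩) : ℂ) = -1 := by
    have h2 : (μ (ν ⟨z, hz⟩) : ℂ) ^ 2 = 1 := by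
      rw [← Units.val_pow_eq_pow_val, ← map_pow, ← map_pow,
        show (⟨z, hz⟩ : D) ^ 2 = 1 from Subtype.ext (ho ▸ pow_orderOf_eq_one z), map_one, map_one, Units.val_one]
    exact (sq_eq_one_iff.1 h2).resolve_left fun e => hμ (Units.val_eq_one.1 e)
  have hη : Stable 2 D e (extendByZero D fun v => (μ.comp ν v : ℂ)) := stable_ez fun v w hvw => by
    obtain ⟨-, t, ht, e1⟩ := (ab_fus_iff h hab).1 hvw
    simp only [MonoidHom.comp_apply]
    rw [hν t ht v w e1.symm]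
  obtain ⟨ψ, hψ, e1⟩ := exists_irr_ast_linear h hB hξ (μ.comp ν) hη
  have e2 : extendByZero D (fun v => (μ.comp ν v : ℂ)) 1 = 1 := by
    rw [extendByZero_of_mem D _ D.one_mem, show (⟨1, D.one_mem⟩ : D) = 1 from rfl, map_one, Units.val_one]
  refine ⟨ψ, hψ, ?_, ?_⟩
  · rw [e1, reg_ast h hB (irr_isClassFunction _) hη, e2, one_smul, blockPart_irr_of_mem hξ]
  · have h3 := congrFun (sp_ast h (irr_isClassFunction ξ) hη hz) 1
    rw [← e1, ra_sp h hB hz hc' hψ, Pi.smul_apply, ra_sp h hB hz hc' hξ, extendByZero_of_mem D _ hz,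
      MonoidHom.comp_apply, h2, h1, smul_eq_mul] at h3
    rw [h3, e1, ast_apply_one h hB (irr_isClassFunction _) hη, e2, blockPart_irr_of_mem hξ]
    ring

theorem lo_quo {Q : Type*} [Group Q] [Fintype Q] (hM : IsPModular 2 M) (hb : IsPBlock M B)
    (hD : IsDefectGroup 2 M B D) (hab : D ≤ Cz D) (hd3 : 2 ^ blockDefect 2 B = 8) {z : G}
    (hz : z ∈ D) (hc : z ∈ Subgroup.center G) (ho : orderOf z = 2) {φ : G →* Q} (hφ : Function.Surjective φ)
    (hk : φ.ker = Subgroup.zpowers z) {C : Set (IrrCharacter Q)} (hC : ∀ θ, infl φ hφ θ ∈ B → θ ∈ C)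
    (a1 : IsPBlock M C) (a6 : 2 ^ blockDefect 2 C = 4) (a5 : blockRank 2 C = 1 ∨ blockRank 2 C = 3)
    (c : IrrCharacter G → ℤ) (hn : Odd (∑ ξ ∈ bf B, c ξ * ∑ η ∈ bf B, c η * aa 2 B ξ η)) :
    8 ∣ ∑ ξ ∈ bf B, c ξ * ∑ η ∈ bf B, c η * aa 2 B ξ η - blockRank 2 C := by
  classical
  have : Fact (Nat.Prime 2) := ⟨Nat.prime_two⟩
  have hP : IsPGroup 2 φ.ker := IsPGroup.of_card (n := 1) (by rw [hk, Nat.card_zpowers, ho, pow_one])
  have hZ : φ.ker ≤ Subgroup.center G := hk.le.trans (Subgroup.zpowers_le.2 hc)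
  have a7 : blockDefect 2 C ≤ 2 := (Nat.pow_right_injective le_rfl (show _ = 2 ^ 2 from a6)).le
  have hι : ∀ ξ : IrrCharacter G, ∃ θ : IrrCharacter Q, ξ ∈ B →
      θ ∈ C ∧ pRegularPart 2 (ξ : G → ℂ) = lft 2 φ θ := fun ξ => by
    by_cases hξ : ξ ∈ B
    swap
    · exact ⟨irrOne _, fun h => absurd h hξ⟩
    obtain ⟨ψ, hψ, e1, e2⟩ := lo_ast hM hb hD hab hz hc ho hξ
    obtain ⟨θ, rfl⟩ := exists_infl_eq φ hφ (χ := ψ) fun x hx => by
      rw [hk] at hx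
      obtain ⟨k, rfl⟩ := mem_powers_iff_mem_zpowers.2 hx
      change (ψ : G → ℂ) (z ^ k) = _
      rw [irr_central_pow ψ.2 hc, e2, div_self (irr_one_ne_zero ψ.2), one_pow, one_mul]
    exact ⟨θ, fun _ => ⟨hC θ hψ, e1.symm.trans (lft_apply _).symm⟩⟩
  choose ι hι using hι
  have e1 : ∀ ξ ∈ bf B, ∀ η ∈ bf B, aa 2 B ξ η = aa 2 C (ι ξ) (ι η) := by
    intro ξ hξ η hη
    have h1 := card_mul_inner_lft hφ hP hZ (ι ξ : Q → ℂ) (ι η : Q → ℂ)
    rw [← (hι ξ (mem_bf.1 hξ)).2, ← (hι η (mem_bf.1 hη)).2, ← mm_eq_both, hk, Nat.card_zpowers, ho] at h1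
    have h3 := aa_cast (p := 2) (mem_bf.1 hξ) (isGenChar_of_isIrr η.2)
    have h4 := aa_cast (p := 2) (hι ξ (mem_bf.1 hξ)).1 (isGenChar_of_isIrr (ι η).2)
    rw [← Nat.cast_pow, hd3] at h3
    rw [← Nat.cast_pow, a6, mm, ← h1] at h4
    refine Int.cast_injective (α := ℂ) ?_
    rw [h3, h4]
    push_cast
    ring
  have hm : ∀ ξ ∈ bf B, ι ξ ∈ bf C := fun ξ hξ => mem_bf.2 (hι ξ (mem_bf.1 hξ)).1
  have e2 : ∑ ξ ∈ bf B, c ξ * ∑ η ∈ bf B, c η * aa 2 B ξ η = ∑ i ∈ bf C, (∑ x ∈ bf B with ι x = i, c x) *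
      ∑ j ∈ bf C, (∑ x ∈ bf B with ι x = j, c x) * aa 2 C i j := by
    rw [← lo_fib hm c fun i => ∑ j ∈ bf C, (∑ x ∈ bf B with ι x = j, c x) * aa 2 C i j]
    refine Finset.sum_congr rfl fun ξ hξ => ?_
    rw [← lo_fib hm c fun j => aa 2 C (ι ξ) j]
    exact congrArg _ (Finset.sum_congr rfl fun η hη => by rw [e1 ξ hξ η hη])
  rw [e2] at hn ⊢
  refine lo_int (fun i j : IrrCharacter Q => aa 2 C i j) (aa_comm_irr _)
    (fun i hi j hj => Int.not_even_iff_odd.1 fun e => not_dvd_aa_of_height_zero hM a1 (mem_bf.1 hj) (mem_bf.1 hi)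
      (height_eq_zero_of_defect_le hM a1 a7 (mem_bf.1 hj)) (height_eq_zero_of_defect_le hM a1 a7 (mem_bf.1 hi))
      e.two_dvd) (fun i hi j _ => ?_) (by omega) ?_ _ hn
  · rw [sum_aa_mul_aa hM a1 (mem_bf.1 hi) (isGenChar_of_isIrr j.2), ← Nat.cast_pow, a6, Nat.cast_ofNat]
  · rw [sum_aa_self hM a1, ← Nat.cast_pow, a6, Nat.cast_ofNat]

theorem lo_main [∀ u : G, Fintype (Cu u)] (hM : IsPModular 2 M) (hB : IsPBlock M B) (hD : IsDefectGroup 2 M B D)
    (h8 : Nat.card D = 8) (h2 : ∀ x ∈ D, x ^ 2 = 1) {u : G} (hu : ∃ k, orderOf u = 2 ^ k) (u1 : u ≠ 1)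
    {b : Set (IrrCharacter (Cu u))} (hb : IsInducedBlock M (Cu u) b B) {χ : IrrCharacter G} (hχ : χ ∈ B)
    (h0 : blockHeight 2 B χ = 0) : ∃ n : ℤ, (8 : ℂ) * mu 2 u b χ χ = n ∧ (8 : ℤ) ∣ n - blockRank 2 b := by
  classical
  have : Fact (Nat.Prime 2) := ⟨Nat.prime_two⟩
  obtain ⟨e, h⟩ := BrPair.exists_maxPair_of_isDef le_rfl BrPair.top_le_Nz_top (BrPair.isBlk_eB hM hB)
    ((BrPair.isDefectGroup_iff hM hB).1 hD)
  have hi : ∀ x ∈ D, x⁻¹ = x := fun x hx => inv_eq_of_mul_eq_one_right (by rw [← sq, h2 x hx])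
  have hab : D ≤ Cz D := fun x hx y hy => by
    rw [← hi _ (D.mul_mem hy hx), mul_inv_rev, hi x hx, hi y hy]
  obtain ⟨g, hv, hg⟩ := exists_conj_su h hB hu hb
  rw [← mu_conj hM rfl hb.1 (isPBlock_bu h hv) hg (irr_isClassFunction χ) (irr_isClassFunction χ),
    ← rank_conj h hB hu rfl hb (induced_bu h hB hv) hg]
  have v1 : g * u * g⁻¹ ≠ 1 := by simpa using u1
  generalize g * u * g⁻¹ = v at hv v1
  clear hg hb hu u1 b u
  have ho : orderOf v = 2 := orderOf_eq_prime (h2 v hv) v1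
  have hc := ab_le_Cu h hab hv
  have hb := isPBlock_bu h hv
  have hd : blockDefect 2 (bu hM D e v) = blockDefect 2 B := defect_bu_of_central h hB hv hc
  have hd3 : 2 ^ blockDefect 2 (bu hM D e v) = 8 := (ab_pow_defect h hab hv).trans h8
  have hbD : IsDefectGroup 2 M (bu hM D e v) (D.subgroupOf (Cu v)) :=
    (BrPair.isDefectGroup_iff_map hM hb).2 (by
      rw [Subgroup.map_subgroupOf_eq_of_le hc]; exact isDef_su_of_central h hv hc)
  have hind := induced_bu h hB hv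
  generalize bu hM D e v = b at hb hd hd3 hbD hind
  have := Fintype.ofFinite (Cu v ⧸ Subgroup.zpowers (uC v))
  have hP := isPGroup_ker_qz (p := 2) (u := v) ⟨1, ho⟩
  have a1 := isPBlock_dom (qz_surj v) hP (ker_qz_le v) hM hb
  have a2 := isDefectGroup_dom (qz_surj v) hP (ker_qz_le v) hM hb hbD
  have a3 := blockRank_dom (qz_surj v) hP (ker_qz_le v) hM hb
  have a4 : Nat.card ((D.subgroupOf (Cu v)).map (qz v)) = 4 := by
    have := card_map_qz (D := D.subgroupOf (Cu v)) (u := v) hv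
    rw [ho, Nat.card_congr (Subgroup.subgroupOfEquivOfLe hc).toEquiv, h8] at this
    omega
  have a5 := ra_klein hM a1 a2 a4 (by
    rintro _ ⟨x, hx, rfl⟩
    rw [← map_pow, show x ^ 2 = 1 from Subtype.ext (h2 x hx), map_one])
  have hc : ∀ ξ : IrrCharacter (Cu v), ∃ c : ℤ,
      om v ξ * classInner (fun c : Cu v => (χ : G → ℂ) c) (ξ : Cu v → ℂ) = c := fun ξ =>
    exists_int_of_mem_cycInt_two ho.dvd (om_mul_inner_mem_cycInt (isGenChar_of_isIrr χ.2) ξ)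
  choose c hc using hc
  have e2 : au 2 v b χ χ = ((∑ ξ ∈ bf b, c ξ * ∑ η ∈ bf b, c η * aa 2 b ξ η : ℤ) : ℂ) := by
    rw [au_eq_sum, Int.cast_sum]
    refine Finset.sum_congr rfl fun ξ hξ => ?_
    rw [Finset.mul_sum, Int.cast_sum]
    refine Finset.sum_congr rfl fun η hη => ?_
    rw [hc, hc, map_intCast, Int.cast_mul, Int.cast_mul, mul_assoc]
  refine ⟨_, by rw [← e2, au, ← Nat.cast_pow, hd3, Nat.cast_ofNat], ?_⟩
  rw [← a3]
  refine lo_quo hM hb hbD (fun x hx y hy => Subtype.ext (hab hx y hy)) hd3 (z := uC v) hv (uC_mem_center v)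
    ((orderOf_uC v).trans ho) (qz_surj v) (ker_qz v) (fun _ h => h) a1
    (card_eq_pow_blockDefect hM a1 a2 ▸ a4) a5 c ?_
  obtain ⟨y, -, hy, e3⟩ := exists_au_eq_unit hM (k := 1) ho hind hd hχ hχ h0
  rw [h0, pow_zero, one_mul, e2] at e3
  exact Int.not_even_iff_odd.1 fun e => hy (e3 ▸ (li_intCast_iff hM _).2 e.two_dvd)

theorem loc (hM : IsPModular 2 M) (hB : IsPBlock M B) (hD : IsDefectGroup 2 M B D)
    (h8 : Nat.card D = 8) (h2 : ∀ x ∈ D, x ^ 2 = 1) {u : G} [Fintype (Cu u)] (hu : ∃ k, orderOf u = 2 ^ k)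
    (u1 : u ≠ 1) {b : Set (IrrCharacter (Cu u))} (hb : IsInducedBlock M (Cu u) b B) {χ : IrrCharacter G}
    (hχ : χ ∈ B) (h0 : blockHeight 2 B χ = 0) :
    ∃ n : ℤ, (8 : ℂ) * mu 2 u b χ χ = n ∧ (8 : ℤ) ∣ n - blockRank 2 b := by
  have := @lo_main G _ _ M B D (fun v => Fintype.ofFinite _) hM hB hD h8 h2 u hu u1 b hb χ hχ h0
  convert this

end CfsgLib.KKL
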