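import Cfsg.Agent.Lib.KKL.CoreA
import Cfsg.Agent.Lib.KKL.Kill
import Cfsg.Agent.Lib.KKL.Loc

/-! A 2-block with elementary abelian defect group of order 8 has at least eight characters. -/

set_option autoImplicit false

namespace CfsgLib.KKL

open Cfsg CfsgLib.Blk

theorem core {M : Ideal AlgInt} (hM : IsPModular 2 M) (H : Type*) [Group H] [Finite H]
    (B : Set (IrrCharacter H)) (hB : IsPBlock M B) (D : Subgroup H) (hD : IsDefectGroup 2 M B D)
    (h8 : Nat.card D = 8) (h2 : ∀ x ∈ D, x ^ 2 = 1) : 8 ≤ Nat.card B := by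
  classical
  letI := Fintype.ofFinite H
  letI : ∀ u : H, Fintype (Cu u) := fun u => Fintype.ofFinite _
  exact core_of hM hB hD h8 h2 kill fun u hu u1 b hb χ hχ h0 => loc hM hB hD h8 h2 hu u1 hb hχ h0

end CfsgLib.KKL
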