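import Mathlib
import Cfsg.Agent.Lib.Blk.Dec
import Cfsg.Agent.Lib.Block.Kul
import Cfsg.Agent.Lib.Block.Knorr
import Cfsg.Agent.Lib.Block.Pair
import Cfsg.Agent.Lib.Block.Vanish

/-! The Cartan form of a 2-block with a nontrivial elementary abelian defect group is even. -/

set_option autoImplicit false
set_option linter.unusedSectionVars false

namespace CfsgLib.KKL

open Cfsg CfsgLib.Char CfsgLib.Block MonoidAlgebra
open scoped ComplexConjugate

theorem ev_fix {k ι : Type*} [CommRing k] [CharP k 2] [Fintype ι] [DecidableEq ι] (j : ι → ι)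
    (hj : ∀ i, j (j i) = i) (F : ι → k) (hF : ∀ i, F (j i) = F i) :
    ∑ i, F i = ∑ i, if j i = i then F i else 0 := by
  rw [← sub_eq_zero, ← Finset.sum_sub_distrib]
  refine Finset.sum_involution (fun i _ => j i) (fun i _ => ?_) (fun i _ h e => h ?_)
    (fun _ _ => Finset.mem_univ _) fun i _ => hj i
  · rw [hF, hj]
    by_cases h : j i = i
    · rw [if_pos h, if_pos h.symm, sub_self, add_zero]
    · rw [if_neg h, if_neg (Ne.symm h), sub_zero, CharTwo.add_self_eq_zero]
  · rw [if_pos e, sub_self]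

variable {G : Type*} [Group G] [Fintype G] {M : Ideal AlgInt}

open Classical in
/-- the number of `t` with `t² = 1` inverting `s` -/
noncomputable def evA (s : G) : ℕ := (Finset.univ.filter fun t : G => t ^ 2 = 1 ∧ t * s * t⁻¹ = s⁻¹).card

open Classical in
theorem evA_cast {k : Type*} [CommRing k] [CharP k 2] (s : G) :
    (evA s : k) = if IsConj s s⁻¹ then (Nat.card (Subgroup.centralizer ({s} : Set G)) : k) else 0 := by
  have h1 := ev_fix (k := k) (fun g : G => g⁻¹) inv_inv (fun g => if g * s * g⁻¹ = s⁻¹ then 1 else 0)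
    fun g => if_congr ⟨fun h => by
      have : g * (g⁻¹ * s * g⁻¹⁻¹)⁻¹ * g⁻¹ = s⁻¹ := by group
      rwa [h, inv_inv] at this, fun h => by
      have : g⁻¹ * (g * s * g⁻¹)⁻¹ * g⁻¹⁻¹ = s⁻¹ := by group
      rwa [h, inv_inv] at this⟩ rfl rfl
  have h2 : (evA s : k) = ∑ g : G, if g * s * g⁻¹ = s⁻¹ then (1 : k) else 0 := by
    rw [h1, evA, Finset.card_filter, Nat.cast_sum]
    refine Finset.sum_congr rfl fun g _ => ?_
    have : g ^ 2 = 1 ↔ g⁻¹ = g := by rw [pow_two, mul_eq_one_iff_inv_eq]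
    by_cases a : g⁻¹ = g <;> by_cases b : g * s * g⁻¹ = s⁻¹ <;> simp only [this, a, b] <;> simp_all
  rw [h2]
  split_ifs with h
  · obtain ⟨c, hc⟩ := isConj_iff.1 h
    rw [← Equiv.sum_comp (Equiv.mulLeft c), Finset.sum_boole, Nat.card_eq_fintype_card, Fintype.card_subtype]
    refine congrArg (fun s : Finset G => (s.card : k)) (Finset.filter_congr fun g _ => ?_)
    rw [Equiv.coe_mulLeft, Subgroup.mem_centralizer_singleton_iff, ← hc]
    constructor
    · intro e
      have : g * s * g⁻¹ = s := by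
        calc g * s * g⁻¹ = c⁻¹ * (c * g * s * (c * g)⁻¹) * c := by group
          _ = s := by rw [e]; group
      exact mul_inv_eq_iff_eq_mul.1 this
    · intro e
      calc c * g * s * (c * g)⁻¹ = c * (g * s) * g⁻¹ * c⁻¹ := by group
        _ = _ := by rw [e]; group
  · exact Finset.sum_eq_zero fun g _ => if_neg fun e => h (isConj_iff.2 ⟨g, e⟩)

theorem coeff_powSum_sq (s : G) : (powSum ℂ G 2 * powSum ℂ G 2).coeff s = evA s := by
  classical
  rw [coeff_mul_left, evA, Finset.card_filter, Nat.cast_sum]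
  refine Finset.sum_congr rfl fun t _ => ?_
  rw [coeff_powSum, coeff_powSum]
  by_cases a : t ^ 2 = 1
  · have ti : t⁻¹ = t := by rwa [pow_two, mul_eq_one_iff_inv_eq] at a
    have : (t⁻¹ * s) ^ 2 = 1 ↔ t * s * t⁻¹ = s⁻¹ := by
      rw [ti, pow_two, ← mul_assoc, mul_eq_one_iff_eq_inv]
    by_cases b : t * s * t⁻¹ = s⁻¹
    · rw [if_pos a, if_pos (this.2 b), if_pos ⟨a, b⟩]; simp
    · rw [if_neg (mt this.1 b), if_neg (fun e : _ ∧ _ => b e.2)]; simp
  · rw [if_neg a, if_neg (fun e : _ ∧ _ => a e.1)]; simp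

/-- **EV** -/
theorem ev (hM : IsPModular 2 M) {B : Set (IrrCharacter G)} (hB : IsPBlock M B) {D : Subgroup G}
    (hD : IsDefectGroup 2 M B D) (h2 : ∀ x ∈ D, x ^ 2 = 1) (hne : D ≠ ⊥) (x : IrrCharacter G → ℤ)
    (hx : ∀ χ, χ ∉ B → x χ = 0)
    (h0 : ∀ g : G, 2 ∣ orderOf g → ∑ χ : IrrCharacter G, (x χ : ℂ) * (χ : G → ℂ) g = 0) :
    Even (∑ χ, x χ ^ 2) := by
  classical
  set Φ : G → ℂ := fun g => ∑ χ : IrrCharacter G, (x χ : ℂ) * (χ : G → ℂ) g with hΦ
  have eΦ : Φ = ∑ χ : IrrCharacter G, (x χ : ℂ) • (χ : G → ℂ) := by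
    ext g; simp [hΦ]
  have cΦ : ∀ g h, Φ (h * g * h⁻¹) = Φ g := fun g h =>
    Finset.sum_congr rfl fun χ _ => by rw [irr_isClassFunction χ g h]
  have cΦ' : ∀ {g h}, IsConj g h → Φ h = Φ g := fun H => by
    obtain ⟨c, rfl⟩ := isConj_iff.1 H; exact cΦ _ _
  set n : G → ℕ := fun g => Nat.card (Subgroup.centralizer ({g} : Set G)) with hn
  have n0 : ∀ g, (n g : ℂ) ≠ 0 := fun g => Nat.cast_ne_zero.2 Nat.card_pos.ne'
  have ni : ∀ g, n g⁻¹ = n g := fun g => card_Ce_inv g
  have nc : ∀ {g h}, IsConj g h → n h = n g := fun {g h} H => by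
    have e1 := Subgroup.card_mul_index (Subgroup.centralizer ({g} : Set G))
    have e2 := Subgroup.card_mul_index (Subgroup.centralizer ({h} : Set G))
    have e3 := centralChar_eq_of_isConj (χ := fun _ : G => (1 : ℂ)) (fun _ _ => rfl) H
    simp only [centralChar, mul_one, div_one, Nat.cast_inj] at e3
    rw [← e3] at e2
    exact Nat.eq_of_mul_eq_mul_right (Nat.pos_of_ne_zero Subgroup.index_ne_zero_of_finite) (e2.trans e1.symm)
  have G0 : (Nat.card G : ℂ) ≠ 0 := Nat.cast_ne_zero.2 Nat.card_pos.ne'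
  set γ : G → ℂ := fun g => Φ g / n g with hγ
  have lγ : ∀ g, MemLocalRing M (γ g) := fun g => Blk.lr_div_card_of_vanish hM Finset.univ _ _
    (fun χ _ => lr_intCast hM (x χ)) (fun χ _ => irr_isCharacter χ) h0 g
  have cγ : ∀ {g h}, IsConj g h → γ h = γ g := fun H => by simp only [hγ, cΦ' H, nc H]
  have S1 : ((∑ χ, x χ ^ 2 : ℤ) : ℂ) = ∑ C : ConjClasses G, (n (crep C) : ℂ) * (γ (crep C) * γ (crep C)⁻¹) := by
    have e1 : classInner Φ Φ = ((∑ χ, x χ ^ 2 : ℤ) : ℂ) := by
      rw [eΦ, classInner_sum_left]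
      push_cast
      refine Finset.sum_congr rfl fun χ _ => ?_
      rw [classInner_smul_left, classInner_sum_right, Finset.sum_eq_single χ]
      · rw [classInner_smul_right, classInner_irr_irr, if_pos rfl]; simp [sq]
      · intro ψ _ h
        rw [classInner_smul_right, classInner_irr_irr, if_neg h.symm, mul_zero]
      · simp
    have e2 : ∀ g, conj (Φ g) = Φ g⁻¹ := fun g => by
      simp only [hΦ, map_sum, map_mul, map_intCast]
      exact Finset.sum_congr rfl fun χ _ => by rw [char_inv (irr_isCharacter χ)]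
    rw [← e1, classInner, sum_eq_sum_conjClasses (f := fun g => Φ g * conj (Φ g))
      (fun g h => by simp only [cΦ]), Finset.mul_sum]
    refine Finset.sum_congr rfl fun C _ => ?_
    have := index_Ce_eq (crep C)
    have h3 := n0 (crep C)
    rw [e2, show ((Subgroup.centralizer ({crep C} : Set G)).index : ℂ) = Nat.card G / n (crep C) from this]
    simp only [hγ, ni]
    field_simp
  have S2 : MemLocalIdeal M (∑ C : ConjClasses G, (evA (crep C) : ℂ) * γ (crep C)) := by
    have e1 : ∑ C : ConjClasses G, (evA (crep C) : ℂ) * γ (crep C) =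
        (Nat.card G : ℂ)⁻¹ * chiA Φ (powSum ℂ G 2 * powSum ℂ G 2) := by
      have hz : powSum ℂ G 2 * powSum ℂ G 2 ∈ Z ℂ G := mul_mem (powSum_mem_Z 2) (powSum_mem_Z 2)
      rw [chiA_apply, sum_eq_sum_conjClasses (f := fun g => (powSum ℂ G 2 * powSum ℂ G 2).coeff g * Φ g)
        (fun g h => by
          simp only [cΦ]
          rw [coeff_eq_of_isConj hz (isConj_iff.2 ⟨h, rfl⟩ : IsConj g (h * g * h⁻¹))]), Finset.mul_sum]
      refine Finset.sum_congr rfl fun C _ => ?_
      have := index_Ce_eq (crep C)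
      have h3 := n0 (crep C)
      rw [coeff_powSum_sq,
        show ((Subgroup.centralizer ({crep C} : Set G)).index : ℂ) = Nat.card G / n (crep C) from this]
      simp only [hγ]
      field_simp
    rw [e1, eΦ, chiA_sum_left, Finset.mul_sum]
    refine li_sum hM fun χ _ => ?_
    by_cases hχ : χ ∈ B
    swap
    · rw [hx χ hχ, Int.cast_zero, zero_smul, chiA_zero_left, mul_zero]; exact li_zero hM
    have hd : (charDegree (χ : G → ℂ)).factorization 2 ≠ (Nat.card G).factorization 2 := fun e => by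
      have := card_eq_pow_blockDefect hM hB hD
      rw [(blockDefect_eq_zero_iff hM hB hχ).2 e, pow_zero] at this
      exact hne (Subgroup.eq_bot_of_card_eq D this)
    have e2 : chiA (χ : G → ℂ) (powSum ℂ G 2) =
        Nat.card G * classInner (pEltInd 2 G) (fun g => conj ((χ : G → ℂ) g)) := by
      rw [classInner, mul_inv_cancel_left₀ G0, chiA_apply]
      refine Finset.sum_congr rfl fun g _ => ?_
      rw [coeff_powSum, pEltInd, Complex.conj_conj]
      by_cases a : g ^ 2 = 1
      · obtain ⟨k, -, hk⟩ := (Nat.dvd_prime_pow Nat.prime_two).1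
          (orderOf_dvd_of_pow_eq_one (n := 2 ^ 1) a)
        rw [if_pos a, if_pos ⟨k, hk⟩]
      · rw [if_neg a]
        split_ifs with b
        · by_contra h
          obtain ⟨t, ht⟩ := exists_conj_mem_of_ne_zero hM hB hD hχ (isPPart_self hM.1 b)
            fun e => h (by rw [e, mul_zero, mul_zero])
          have := h2 _ ht
          rw [conj_pow, mul_inv_eq_one, mul_eq_left] at this
          exact a this
        · rfl
    have l := lr_classInner_pEltInd hM (isCharacter_conj (irr_isCharacter χ))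
    have χ0 : (χ : G → ℂ) 1 ≠ 0 := by
      rw [← charDegree_eq (irr_isCharacter χ)]; exact Nat.cast_ne_zero.2 (charDegree_ne_zero χ.2)
    rw [chiA_smul_left, chiA_mul_central χ.2 (powSum_mem_Z 2), omega_apply, e2]
    generalize classInner (pEltInd 2 G) (fun g => conj ((χ : G → ℂ) g)) = c at l
    have := li_mul_right hM (li_card_div_of_ne hM hd) (lr_mul hM (lr_intCast hM (x χ)) (lr_mul hM l l))
    convert this using 1
    field_simp
  rw [even_iff_two_dvd]
  refine (li_intCast_iff hM _).1 ((red_eq_zero_iff hM (lr_intCast hM _)).1 ?_)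
  have S3 := red_eq_zero_of_li hM S2
  rw [red_sum hM fun C _ => lr_mul hM (lr_natCast hM _) (lγ _)] at S3
  have j2 : ∀ C : ConjClasses G, IsConj (crep C)⁻¹ (crep (ConjClasses.mk (crep C)⁻¹)) := fun C => isConj_crep _
  have j3 : ∀ C : ConjClasses G, IsConj (crep C) (crep (ConjClasses.mk (crep C)⁻¹))⁻¹ := fun C => by
    simpa using isConj_inv_inv (j2 C)
  rw [S1, red_sum hM fun C _ => lr_mul hM (lr_natCast hM _) (lr_mul hM (lγ _) (lγ _)),
    ev_fix (fun C : ConjClasses G => ConjClasses.mk (crep C)⁻¹)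
      (fun C => ((isConj_crep_iff C _).1 (j3 C)).symm) _
      (fun C => by rw [nc (j2 C), ni, cγ (j2 C), cγ (j3 C), mul_comm (γ _)])]
  refine Eq.trans ?_ ((pow_eq_zero_iff two_ne_zero).2 S3)
  rw [CharTwo.sum_sq]
  refine Finset.sum_congr rfl fun C _ => ?_
  rw [red_mul hM (lr_natCast hM _) (lγ _), red_natCast, evA_cast]
  by_cases h : IsConj (crep C) (crep C)⁻¹
  · rw [if_pos ((isConj_crep_iff C _).1 h).symm, if_pos h,
      red_mul hM (lr_natCast hM _) (lr_mul hM (lγ _) (lγ _)), red_mul hM (lγ _) (lγ _), red_natCast, cγ h,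
      mul_pow, ← sq]
    congr 1
    rcases Nat.even_or_odd (n (crep C)) with e | e
    · rw [(CharP.cast_eq_zero_iff (K hM) 2 _).2 e.two_dvd]; simp
    · obtain ⟨m, hm⟩ := e
      have : ((n (crep C) : ℕ) : K hM) = 1 := by
        rw [hm, Nat.cast_add, Nat.cast_mul, CharP.cast_eq_zero (K hM) 2, zero_mul, zero_add, Nat.cast_one]
      rw [this, one_pow]
  · rw [if_neg h, if_neg fun e => h ((isConj_crep_iff C _).2 e.symm), zero_mul, zero_pow two_ne_zero]

end CfsgLib.KKL
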