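import Mathlib
import Cfsg.Agent.Lib.KKL.EV
import Cfsg.Agent.Lib.Blk.One
import Cfsg.Agent.Lib.Blk.Two

/-! 2-blocks with elementary abelian defect group of order 8: reduction to two lemmas. -/

set_option autoImplicit false
set_option linter.unusedSectionVars false

namespace CfsgLib.KKL

open Cfsg CfsgLib.Char CfsgLib.Block CfsgLib.Blk

theorem core_of {M : Ideal AlgInt} (hM : IsPModular 2 M) {G : Type*} [Group G] [Fintype G]
    [∀ u : G, Fintype (Cu u)] [DecidableEq (IrrCharacter G)]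
    {B : Set (IrrCharacter G)} (hB : IsPBlock M B) {D : Subgroup G} (hD : IsDefectGroup 2 M B D)
    (h8 : Nat.card D = 8) (h2 : ∀ x ∈ D, x ^ 2 = 1)
    (kill : ∀ (s : Finset (IrrCharacter G)) (A : IrrCharacter G → IrrCharacter G → ℤ) (h : IrrCharacter G → ℕ) (R : ℤ),
      (∀ i j, A i j = A j i) → (∀ i ∈ s, ∀ j ∈ s, ∑ k ∈ s, A i k * A k j = 8 * A i j) → (∃ i ∈ s, h i = 0) →
      (∀ i ∈ s, ∀ j ∈ s, h i = 0 → h j = 0 → Odd (A i j)) → (∀ i ∈ s, ∀ j ∈ s, h i ≠ 0 → Even (A i j)) →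
      (∀ i ∈ s, ∀ j ∈ s, h i = 0 → A i j ≠ 0) → (∑ i ∈ s, (8 - A i i) = 8 * R) →
      (∀ i ∈ s, h i = 0 → (8 : ℤ) ∣ 8 - A i i - R) →
      (∀ x : IrrCharacter G → ℤ, (∀ i ∈ s, ∑ j ∈ s, A i j * x j = 8 * x i) → Even (∑ i ∈ s, x i ^ 2)) →
      8 ≤ s.card)
    (loc : ∀ u : G, (∃ k, orderOf u = 2 ^ k) → u ≠ 1 → ∀ b, IsInducedBlock M (Cu u) b B →
      ∀ χ : IrrCharacter G, χ ∈ B → blockHeight 2 B (χ : G → ℂ) = 0 →
        ∃ n : ℤ, (8 : ℂ) * mu 2 u b χ χ = n ∧ (8 : ℤ) ∣ n - blockRank 2 b) :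
    8 ≤ Nat.card B := by
  classical
  have : Fact (Nat.Prime 2) := ⟨Nat.prime_two⟩
  have hd : blockDefect 2 B = 3 := Nat.pow_right_injective le_rfl
    (show 2 ^ blockDefect 2 B = 2 ^ 3 by rw [← card_eq_pow_blockDefect hM hB hD, h8])
  have gc : ∀ χ : IrrCharacter G, IsGeneralizedCharacter G (χ : G → ℂ) := fun χ =>
    isGenChar_of_isCharacter (irr_isCharacter χ)
  have ac : ∀ χ ∈ B, ∀ ψ : IrrCharacter G, (aa 2 B χ ψ : ℂ) = 8 * mm 2 (χ : G → ℂ) ψ := fun χ hχ ψ => by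
    rw [aa_cast hχ (gc ψ), hd]; norm_num
  obtain ⟨X, hX⟩ := exists_isPReps 2 G
  have X1 : (1 : G) ∈ X := by
    obtain ⟨x, ⟨h1, h3⟩, -⟩ := hX.2 1 ⟨0, by simp⟩
    rwa [isConj_one_right.1 h3] at h1
  have key : ∀ χ ∈ B, ((8 - aa 2 B χ χ : ℤ) : ℂ) =
      ∑ u ∈ X.erase 1, ∑ b ∈ subs M u B, 8 * mu 2 u b χ χ := fun χ hχ => by
    have h1 := sum_sum_mu hM hX hB hχ (irr_isClassFunction χ)
    rw [← Finset.add_sum_erase _ _ X1, sum_subs_mu hM ⟨0, by simp⟩ hB hχ (irr_isClassFunction χ),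
      sectionPart_one_eq hM.1, classInner_irr_self χ.2] at h1
    simp only [← Finset.mul_sum]
    rw [eq_sub_of_add_eq' h1, Int.cast_sub, ac χ hχ, mm]
    push_cast; ring
  rw [card_bf]
  refine kill (bf B) (fun χ ψ => aa 2 B χ ψ) (fun χ => blockHeight 2 B (χ : G → ℂ))
    (∑ u ∈ X.erase 1, ∑ b ∈ subs M u B, (blockRank 2 b : ℤ)) (fun χ ψ => aa_comm_irr B χ ψ)
    (fun χ hχ ψ _ => ?_) ?_ (fun χ hχ ψ hψ a b => ?_) (fun χ hχ ψ hψ a => ?_) (fun χ hχ ψ hψ a e => ?_) ?_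
    (fun χ hχ a => ?_) fun x hx => ?_
  · rw [sum_aa_mul_aa hM hB (mem_bf.1 hχ) (gc ψ), hd]; norm_num
  · obtain ⟨χ, h1, h3⟩ := exists_height_zero (p := 2) (IsPBlock_nonempty hM hB)
    exact ⟨χ, mem_bf.2 h1, h3⟩
  · exact Int.not_even_iff_odd.1 fun e =>
      not_dvd_aa_of_height_zero hM hB (mem_bf.1 hψ) (mem_bf.1 hχ) b a e.two_dvd
  · exact even_iff_two_dvd.2 ((dvd_pow_self _ a).trans (pow_height_dvd_aa (p := 2) (mem_bf.1 hχ) (gc ψ)))
  · have := pow_le_aa_sq hM hB (mem_bf.1 hχ) (mem_bf.1 hψ) a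
    rw [show aa 2 B χ ψ = 0 from e] at this
    exact absurd this (not_le.2 (by positivity))
  · apply Int.cast_injective (α := ℂ)
    rw [Int.cast_sum, Finset.sum_congr rfl fun χ hχ => key χ (mem_bf.1 hχ), Finset.sum_comm]
    push_cast
    rw [Finset.mul_sum]
    refine Finset.sum_congr rfl fun u hu => ?_
    rw [Finset.sum_comm, Finset.mul_sum]
    refine Finset.sum_congr rfl fun b hb => ?_
    rw [← Finset.mul_sum, sum_mu_self hM (hX.1 u (Finset.mem_of_mem_erase hu)) (mem_subs.1 hb)]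
  · have h1 : ∀ u b, ∃ n : ℤ, u ∈ X.erase 1 → b ∈ subs M u B →
        (8 : ℂ) * mu 2 u b χ χ = n ∧ (8 : ℤ) ∣ n - blockRank 2 b := fun u b => by
      by_cases h : u ∈ X.erase 1 ∧ b ∈ subs M u B
      · obtain ⟨n, hn⟩ := loc u (hX.1 u (Finset.mem_of_mem_erase h.1)) (Finset.ne_of_mem_erase h.1) b
          (mem_subs.1 h.2) χ (mem_bf.1 hχ) a
        exact ⟨n, fun _ _ => hn⟩
      · exact ⟨0, fun a b => absurd ⟨a, b⟩ h⟩
    choose n hn using h1
    have h3 : 8 - aa 2 B χ χ = ∑ u ∈ X.erase 1, ∑ b ∈ subs M u B, n u b := by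
      apply Int.cast_injective (α := ℂ)
      rw [key χ (mem_bf.1 hχ)]
      push_cast
      exact Finset.sum_congr rfl fun u hu => Finset.sum_congr rfl fun b hb => (hn u b hu hb).1
    show (8 : ℤ) ∣ 8 - aa 2 B χ χ - _
    rw [h3, ← Finset.sum_sub_distrib]
    refine Finset.dvd_sum fun u hu => ?_
    rw [← Finset.sum_sub_distrib]
    exact Finset.dvd_sum fun b hb => (hn u b hu hb).2
  · have h1 := ev hM hB hD h2 (fun e => by rw [e] at h8; simp at h8) (fun χ => if χ ∈ B then x χ else 0)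
      (fun χ h => if_neg h) fun g hg => by
        rw [← sum_bf_eq_sum_univ (B := B) fun χ h => by rw [if_neg h, Int.cast_zero, zero_mul]]
        have h3 : ∑ χ ∈ bf B, (x χ : ℂ) *
            (((2 : ℕ) : ℂ) ^ blockDefect 2 B • pRegularPart 2 (χ : G → ℂ)) g =
            8 * ∑ χ ∈ bf B, ((if χ ∈ B then x χ else 0 : ℤ) : ℂ) * (χ : G → ℂ) g := by
          rw [Finset.sum_congr rfl fun χ hχ => congrArg (HMul.hMul (x χ : ℂ))
            (congrFun (pow_smul_reg_eq_sum_aa hM hB (mem_bf.1 hχ)) g)]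
          simp only [Finset.sum_apply, Pi.smul_apply, smul_eq_mul, Finset.mul_sum]
          rw [Finset.sum_comm]
          refine Finset.sum_congr rfl fun ψ hψ => ?_
          have := congrArg (Int.cast : ℤ → ℂ) (hx ψ hψ)
          push_cast at this
          rw [if_pos (mem_bf.1 hψ), ← mul_assoc, ← this, Finset.sum_mul]
          exact Finset.sum_congr rfl fun χ _ => by rw [aa_comm_irr B ψ χ]; ring
        have h4 : ∀ χ : IrrCharacter G, pRegularPart 2 (χ : G → ℂ) g = 0 := fun χ => if_neg (not_not.2 hg)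
        simp only [Pi.smul_apply, h4, smul_zero, mul_zero, Finset.sum_const_zero] at h3
        exact (mul_eq_zero.1 h3.symm).resolve_left (by norm_num)
    rwa [← sum_bf_eq_sum_univ (B := B) fun χ h => by rw [if_neg h]; simp,
      Finset.sum_congr rfl fun χ hχ => by rw [if_pos (mem_bf.1 hχ)]] at h1

end CfsgLib.KKL
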