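import Mathlib
import Cfsg.Agent.Lib.Blk.BF
import Cfsg.Agent.Lib.Blk.CycInt

/-!
# Definitions for the discriminant argument on a 2-block with defect group `2^3`
-/

set_option autoImplicit false

namespace CfsgLib.KKL

open Cfsg CfsgLib.Char CfsgLib.Block CfsgLib.Blk MonoidAlgebra

/-- `x` is fixed by every field automorphism fixing the `m`-th roots of unity. -/
def Fx (m : ℕ) (x : ℂ) : Prop :=
  ∀ τ : ℂ ≃+* ℂ, (∀ ζ : ℂ, ζ ^ m = 1 → τ ζ = ζ) → τ x = x

/-- The fixed field, as a subfield. -/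
def FxF (m : ℕ) : Subfield ℂ where
  carrier := {x | Fx m x}
  mul_mem' ha hb := fun τ h => by rw [map_mul, ha τ h, hb τ h]
  one_mem' := fun τ _ => map_one τ
  add_mem' ha hb := fun τ h => by rw [map_add, ha τ h, hb τ h]
  zero_mem' := fun τ _ => map_zero τ
  neg_mem' ha := fun τ h => by rw [map_neg, ha τ h]
  inv_mem' x ha := fun τ h => by rw [map_inv₀, ha τ h]

theorem mem_FxF {m : ℕ} {x : ℂ} : x ∈ FxF m ↔ Fx m x := Iff.rfl

/-- The unramified part of the local ring. -/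
def OR {M : Ideal AlgInt} (hM : IsPModular 2 M) (m : ℕ) : Subring ℂ :=
  O hM ⊓ (FxF m).toSubring

theorem mem_OR {M : Ideal AlgInt} (hM : IsPModular 2 M) {m : ℕ} {x : ℂ} :
    x ∈ OR hM m ↔ MemLocalRing M x ∧ Fx m x := Iff.rfl

/-- A local ring whose maximal ideal is generated by `2`. -/
def TwoLoc (R : Type*) [CommRing R] : Prop :=
  (∀ x : R, ¬ IsUnit x → (2 : R) ∣ x) ∧ ¬ IsUnit (2 : R)

open Classical in
/-- The sum of the solutions of `g ^ 2 = 1`. -/
noncomputable def Om (G : Type*) [Group G] [Finite G] : ℂ[G] :=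
  ofFun fun g => if g * g = 1 then 1 else 0

/-- The number of `a` with `a ^ 2 = 1` inverting `x`. -/
noncomputable def II {G : Type*} [Group G] (x : G) : ℕ :=
  Nat.card {a : G // a * a = 1 ∧ a * x * a = x⁻¹}

variable {G : Type*} [Group G] [Fintype G]

/-- The discriminant, modulo squares, of `⊕ Mat (n χ)` with the form of the group algebra. -/
noncomputable def dd (n : IrrCharacter G → ℤ) : ℂ :=
  ∏ χ : IrrCharacter G, ((if Odd (n χ) then (χ : G → ℂ) 1 / (Nat.card G : ℂ) else 1) *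
    (if n χ % 4 = 2 ∨ n χ % 4 = 3 then -1 else 1))

/-- The norm of the characteristic vector. -/
noncomputable def TT (n : IrrCharacter G → ℤ) : ℂ :=
  ∑ χ : IrrCharacter G, (n χ : ℂ) * (chiA (χ : G → ℂ) (Om G * Om G) / (Nat.card G : ℂ))

/-- The discriminant relation for the multiplicity vector `n`. -/
def Good {M : Ideal AlgInt} (hM : IsPModular 2 M) (m : ℕ) (n : IrrCharacter G → ℤ) : Prop :=
  ∃ Y t y : ℂ, Fx m Y ∧ t ∈ OR hM m ∧ y ∈ OR hM m ∧
    TT n - ∑ χ : IrrCharacter G, (n χ : ℂ) ^ 2 = 2 * t ∧ Y ^ 2 * dd n = 1 + 2 * t + 4 * y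

end CfsgLib.KKL
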