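import Cfsg.Agent.Lib.KKL.RedB
import Cfsg.Agent.Lib.KKL.Kf
import Cfsg.Agent.Lib.KB.Quot
import Cfsg.Agent.Lib.KKL.Kill
import Cfsg.Agent.Lib.KKL.CoreA

/-! # The contribution of a subsection modulo 8 -/

set_option autoImplicit false

namespace CfsgLib.KKL

open Cfsg MonoidAlgebra CfsgLib.Char CfsgLib.Block CfsgLib.Blk CfsgLib.Star
open CfsgLib.BrPair (cS Cz Nz br emb res cj IsBlk SubLE sB cB MaxPair stN)
open CfsgLib.Cyc (qz)

attribute [local implicit_reducible] CfsgLib.Block.K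

variable {G : Type*} [Group G] [Fintype G] {M : Ideal AlgInt}

theorem locb_major (hM : IsPModular 2 M) {B : Set (IrrCharacter G)} (hB : IsPBlock M B)
    {D : Subgroup G} (hD : IsDefectGroup 2 M B D) (h8 : Nat.card D = 8) (h2 : ∀ x ∈ D, x ^ 2 = 1)
    {u : G} (hu : ∃ k, orderOf u = 2 ^ k) {b : Set (IrrCharacter (Cu u))}
    (hb : IsInducedBlock M (Cu u) b B) :
    ∃ P : Subgroup G, u ∈ P ∧ P ≤ Cu u ∧ Nat.card P = 8 ∧ (∀ x ∈ P, x ^ 2 = 1) ∧
      IsDefectGroup 2 M b (P.subgroupOf (Cu u)) := by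
  classical
  have : Fact (Nat.Prime 2) := ⟨Nat.prime_two⟩
  obtain ⟨e, h⟩ := BrPair.exists_maxPair_of_isDef le_rfl BrPair.top_le_Nz_top (BrPair.isBlk_eB hM hB)
    ((BrPair.isDefectGroup_iff hM hB).1 hD)
  obtain ⟨hb1, hb2⟩ := (isInduced_Cu_iff hM hu hB).1 hb
  obtain ⟨P, f, h1, h3, h4⟩ := hb2.exists_subLE_isDef h.hCH h.hH h.prim
  have h' : MaxPair 2 ⊤ ⊤ (eB hM B) P f := ⟨h.hCH, h.hH, h.prim, h3, h1⟩
  obtain ⟨g, -, rfl⟩ := h.isDef.exists_conj h1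
  have hu' : u ∈ cS g D := h4.le (Subgroup.mem_zpowers u)
  have h5 : ∀ x ∈ cS g D, x ^ 2 = 1 := fun x hx => by
    have := h2 _ (BrPair.mem_cS.1 hx)
    have e1 : (g⁻¹ * x * g) ^ 2 = g⁻¹ * x ^ 2 * g := by simp only [sq]; group
    rw [e1] at this
    have e2 : x ^ 2 = g * (g⁻¹ * x ^ 2 * g) * g⁻¹ := by group
    rw [e2, this]; simp
  have hi : ∀ x ∈ cS g D, x⁻¹ = x := fun x hx => inv_eq_of_mul_eq_one_right (by rw [← sq, h5 x hx])
  have hc : cS g D ≤ Cu u := fun x hx => mem_Cu.2 (by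
    rw [← hi _ (mul_mem hu' hx), mul_inv_rev, hi _ hx, hi _ hu'])
  refine ⟨_, hu', hc, by rw [BrPair.card_cS, h8], h5, ?_⟩
  rw [← bu_eq h' hb1 h4]
  exact (BrPair.isDefectGroup_iff_map hM (isPBlock_bu h' hu')).2 (by
    rw [Subgroup.map_subgroupOf_eq_of_le hc]; exact isDef_su_of_central h' hu' hc)

theorem locb (hM : IsPModular 2 M) {B : Set (IrrCharacter G)} (hB : IsPBlock M B)
    {D : Subgroup G} (hD : IsDefectGroup 2 M B D) (h8 : Nat.card D = 8) (h2 : ∀ x ∈ D, x ^ 2 = 1)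
    {u : G} [Fintype (Cu u)] (hu : ∃ k, orderOf u = 2 ^ k) (u1 : u ≠ 1)
    {b : Set (IrrCharacter (Cu u))} (hb : IsInducedBlock M (Cu u) b B) {χ : IrrCharacter G}
    (hχ : χ ∈ B) (h0 : blockHeight 2 B (χ : G → ℂ) = 0) :
    ∃ n : ℤ, (8 : ℂ) * mu 2 u b χ χ = n ∧ (8 : ℤ) ∣ n - blockRank 2 b := by
  classical
  have : Fact (Nat.Prime 2) := ⟨Nat.prime_two⟩
  have := Fintype.ofFinite (Cu u ⧸ Subgroup.zpowers (uC u))
  obtain ⟨P, huP, hc, hP8, hP2, hd⟩ := locb_major hM hB hD h8 h2 hu hb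
  have ho : orderOf u = 2 := orderOf_eq_prime (hP2 u huP) u1
  have hφ := Cyc.qz_surj u
  have hP := Cyc.isPGroup_ker_qz hu
  have hZ := Cyc.ker_qz_le u
  have hk : Nat.card (qz u).ker = 2 := by rw [Cyc.ker_qz, Nat.card_zpowers, orderOf_uC, ho]
  have hb' := isPBlock_dom hφ hP hZ hM hb.1
  have hd' := isDefectGroup_dom hφ hP hZ hM hb.1 hd
  have h4 : Nat.card ((P.subgroupOf (Cu u)).map (qz u)) = 4 := by
    have := KB.card_Pq (P := P) huP
    rw [inf_eq_left.2 hc, hP8, ho] at this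
    change Nat.card (KB.Pq P u) = 4
    omega
  have hsq : ∀ y ∈ (P.subgroupOf (Cu u)).map (qz u), y ^ 2 = 1 := by
    rintro _ ⟨x, hx, rfl⟩
    rw [← map_pow, show x ^ 2 = 1 from Subtype.ext (hP2 x hx), map_one]
  have hl := ra_klein hM hb' hd' h4 hsq
  have hdef : blockDefect 2 (Cover.infl (qz u) hφ ⁻¹' b) = 2 := Nat.pow_right_injective le_rfl
    (show 2 ^ blockDefect 2 _ = 2 ^ 2 by rw [← card_eq_pow_blockDefect hM hb' hd', h4])
  have hdb : blockDefect 2 b = 3 := Nat.pow_right_injective le_rfl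
    (show 2 ^ blockDefect 2 _ = 2 ^ 3 by
      rw [← card_eq_pow_blockDefect hM hb.1 hd, Nat.card_congr (Subgroup.subgroupOfEquivOfLe hc).toEquiv, hP8])
  obtain ⟨g, hg, hge⟩ := exists_lft_eq hφ hP hZ hM hb.1 (sp_mem_regSpan (p := 2) u b (χ : G → ℂ))
  have hr := reg_of_mem_regSpan hM hb' hg
  obtain ⟨n, hn, hn'⟩ := kf hM hb' hdef hl hg fun Φ hΦ hΦ' => by
    have h1 := inner_sp_mem_cycInt (p := 2) (u := u) (b := b) (isGenChar_of_isIrr χ.2)
      (isGenChar_lft hφ hP hZ hM hΦ hΦ') (by rw [pRegularPart_smul, reg_lft])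
    rw [← hge, classInner_smul_right, map_natCast, card_mul_inner_lft hφ hP hZ, hr, ho] at h1
    exact exists_int_of_mem_cycInt_two dvd_rfl h1
  have hmu : (8 : ℂ) * mu 2 u b χ χ = n := by
    have h1 := card_mul_inner_lft hφ hP hZ g g
    rw [hge, hk, hr] at h1
    rw [mu, ← hn, ← h1]; push_cast; ring
  refine ⟨n, hmu, ?_⟩
  rw [← blockRank_dom hφ hP hZ hM hb.1]
  refine hn' (Int.not_even_iff_odd.1 fun he => ?_)
  refine (not_li_au_iff hM hu hb χ χ).2 ⟨⟨hχ, h0⟩, hχ, h0⟩ ?_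
  rw [au, hdb, show ((2 : ℕ) : ℂ) ^ 3 = 8 by norm_num, hmu, li_intCast_iff hM]
  exact he.two_dvd

theorem locb_core {M : Ideal AlgInt} (hM : IsPModular 2 M) (H : Type*) [Group H] [Finite H]
    (B : Set (IrrCharacter H)) (hB : IsPBlock M B) (D : Subgroup H) (hD : IsDefectGroup 2 M B D)
    (h8 : Nat.card D = 8) (h2 : ∀ x ∈ D, x ^ 2 = 1) : 8 ≤ Nat.card B := by
  classical
  have := Fintype.ofFinite H
  have : ∀ u : H, Fintype (Cu u) := fun u => Fintype.ofFinite _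
  exact core_of hM hB hD h8 h2 (fun s A h R => kill s A h R)
    fun u hu u1 b hb χ hχ h0 => locb hM hB hD h8 h2 hu u1 hb hχ h0

end CfsgLib.KKL
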