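import Mathlib
import Cfsg.Agent.Lib.Star.Wat
import Cfsg.Agent.Lib.Star.Nil
import Cfsg.Agent.Lib.Blk.Dom
import Cfsg.Agent.S4552
import Cfsg.Agent.S4540

/-! # Tools for the reduction of blocks with defect group `C_{2^n} × 2^3` -/

set_option autoImplicit false

namespace CfsgLib.KKL

open Cfsg MonoidAlgebra CfsgLib.Char CfsgLib.Block CfsgLib.Blk CfsgLib.Star CfsgLib.Cover
open CfsgLib.BrPair (cS Cz Nz br emb res cj IsBlk SubLE sB cB MaxPair stN)

attribute [local implicit_reducible] CfsgLib.Block.K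

universe u

variable {G : Type u} [Group G] {M : Ideal AlgInt}

theorem ra_klein [Finite G] (hM : IsPModular 2 M) {B : Set (IrrCharacter G)} (hB : IsPBlock M B) {D : Subgroup G}
    (hD : IsDefectGroup 2 M B D) (h4 : Nat.card D = 4) (h2 : ∀ x ∈ D, x ^ 2 = 1) :
    blockRank 2 B = 1 ∨ blockRank 2 B = 3 := by
  classical
  have : Fact (Nat.Prime 2) := ⟨Nat.prime_two⟩
  have := Fintype.ofFinite G
  obtain ⟨e, h⟩ := BrPair.exists_maxPair_of_isDef le_rfl BrPair.top_le_Nz_top (BrPair.isBlk_eB hM hB)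
    ((BrPair.isDefectGroup_iff hM hB).1 hD)
  have hnt : Nontrivial D := Finite.one_lt_card_iff_nontrivial.1 (by omega)
  have hV : IsKleinFour D := ⟨h4, (Monoid.exponent_eq_prime_iff Nat.prime_two).2 fun g hg =>
    orderOf_eq_prime (Subtype.ext (h2 g g.2)) hg⟩
  obtain ⟨F, h1⟩ := Cfsg.Agent.S4552.frob h hB ⟨fun a ha b hb =>
    congrArg Subtype.val (hV.isMulCommutative.is_comm.comm (⟨a, ha⟩ : D) ⟨b, hb⟩), D, hV,
    fun v => ⟨fun hv => ⟨hv, h2 v hv⟩, fun hv => hv.1⟩⟩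
  have hP : D ≠ ⊥ := (Subgroup.one_lt_card_iff_ne_bot D).1 (by omega)
  have h5 := (F.rank_eq_or hP (by omega)).resolve_right (by omega)
  omega

section
variable {p : ℕ} [hp : Fact p.Prime] {hM : IsPModular p M} {B : Set (IrrCharacter G)} {P : Subgroup G}
  {e : (K hM)[G]}

theorem ra_su [Finite G] (h : MaxPair p ⊤ ⊤ (eB hM B) P e) {u : G} (hu : u ∈ P) (hc : Cu u = ⊤) :
    su hM P e u = eB hM B := by
  have h1 := h.pair_of (subLE_su h hu)
  have h2 := h1.blk
  have h3 := h1.br_mul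
  rw [Cz_zpowers, top_inf_eq] at h2
  have h4 : br (Subgroup.zpowers u) (eB hM B) = eB hM B := by
    conv_rhs => rw [← BrPair.br_bot (eB hM B)]
    unfold br
    rw [Cz_zpowers, BrPair.Cz_bot]
    exact congrArg (BrPair.trunc · _) hc
  rw [h4] at h3
  change IsBlk (Cu u) _ at h2
  rw [hc] at h2
  exact (h.prim.eq_of_mul_ne_zero (BrPair.isCom_fixSub le_rfl) h2 (h3.symm ▸ h2.ne)).symm

theorem ra_sp [Fintype G] [∀ u : G, Fintype (Cu u)] (h : MaxPair p ⊤ ⊤ (eB hM B) P e) (hB : IsPBlock M B)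
    {u : G} (hu : u ∈ P) (hc : Cu u = ⊤) {χ : IrrCharacter G} (hχ : χ ∈ B) :
    sp p u (bu hM P e u) χ 1 = (χ : G → ℂ) u := by
  have h1 : cB (Cu u) (bu hM P e u) = blockIdem B := by
    refine BrPair.idem_eq_of_redA hM (L := ⊤) (hc ▸ BrPair.cB_mem _ _) (BrPair.blockIdem_mem_fixSub B)
      (BrPair.cB_mem_OG hM (isPBlock_bu h hu)) (blockIdem_mem_OG hM hB) (BrPair.idem_cB _ _)
      (blockIdem_mul_self B) ?_
    rw [BrPair.redA_cB]
    exact ra_su h hu hc
  rw [sp_eq_chiA (irr_isClassFunction χ) _ (by rw [orderOf_one]; exact hp.out.one_lt.ne' ∘ Nat.dvd_one.1), h1,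
    chiA_blockIdem_mul_of_mem hχ, chiA_single, one_mul, OneMemClass.coe_one, mul_one]

/-- the `*`-construction permutes the central characters of `u` transitively -/
theorem ra_mul_le [Finite G] {Q : Type u} [Group Q] (φ : G →* Q) (hφ : Function.Surjective φ)
    (h : MaxPair p ⊤ ⊤ (eB hM B) P e) (hab : P ≤ Cz P) (hB : IsPBlock M B) {u : G} (hu : u ∈ P)
    (hc : Cu u = ⊤) (hk : u ∈ φ.ker) {n : ℕ} (ho : orderOf u = p ^ (n + 1)) :
    p ^ (n + 1) * Nat.card (infl φ hφ ⁻¹' B) ≤ Nat.card B := by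
  classical
  have := Fintype.ofFinite G
  have : ∀ u : G, Fintype (Cu u) := fun u => Fintype.ofFinite _
  obtain ⟨ν, hν, hν'⟩ := exists_norm (T := stN ⊤ P e) (inf_le_left.trans inf_le_right) hab
    h.pgroup (ab_not_dvd_relIndex h hab)
  let _ : CommGroup P := { (inferInstance : Group P) with
    mul_comm := fun a b => Subtype.ext (hab b.2 a a.2) }
  have : NeZero (Monoid.exponent P) := ⟨Monoid.exponent_ne_zero_of_finite⟩
  let u' : P := ⟨u, hu⟩
  have h1 : ν (u' ^ p ^ n) ≠ 1 := fun h1 => by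
    have h2 := hν' (u' ^ p ^ n) (fun t _ => mem_Cu.2
      ((show Commute u t from mem_Cu.1 (hc ▸ Subgroup.mem_top t)).pow_left (p ^ n)).eq) h1
    have h3 : orderOf u ∣ p ^ n := orderOf_dvd_of_pow_eq_one (congrArg Subtype.val h2)
    rw [ho, Nat.pow_dvd_pow_iff_le_right hp.out.one_lt] at h3
    omega
  obtain ⟨μ, hμ⟩ := CommGroup.exists_apply_ne_one_of_hasEnoughRootsOfUnity P ℂ h1
  have h2 : orderOf (μ (ν u')) = p ^ (n + 1) := orderOf_eq_prime_pow (by rwa [← map_pow, ← map_pow]) (by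
    rw [← map_pow, ← map_pow, show u' ^ p ^ (n + 1) = 1 from Subtype.ext (ho ▸ pow_orderOf_eq_one u), map_one,
      map_one])
  let l : ℕ → (P →* ℂˣ) := fun j => (μ.comp ν) ^ j
  let η : ℕ → G → ℂ := fun j => extendByZero P fun v => (l j v : ℂ)
  have hη : ∀ j, Stable p P e (η j) := fun j => stable_ez fun v w hvw => by
    obtain ⟨-, t, ht, e1⟩ := (ab_fus_iff h hab).1 hvw
    simp only [l, MonoidHom.pow_apply, MonoidHom.comp_apply]
    rw [hν t ht v w e1.symm]
  have hηu : ∀ j v (hv : v ∈ P), η j v = (μ (ν ⟨v, hv⟩) : ℂ) ^ j := fun j v hv =>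
    (extendByZero_of_mem P _ hv).trans (by simp [l])
  choose a ha haη using fun (j : ℕ) (χ : infl φ hφ ⁻¹' B) =>
    exists_irr_ast_linear h hB (χ := infl φ hφ χ.1) χ.2 (l j) (hη j)
  have ha1 : ∀ j χ, (a j χ : G → ℂ) 1 = (infl φ hφ χ.1 : G → ℂ) 1 := fun j χ => by
    rw [haη, ast_apply_one h hB (irr_isClassFunction _) (hη j), blockPart_irr_of_mem (show infl φ hφ χ.1 ∈ B from χ.2),
      hηu j 1 P.one_mem, show (⟨1, P.one_mem⟩ : P) = 1 from rfl, map_one, map_one, Units.val_one, one_pow,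
      one_mul]
  have hau : ∀ j χ, (a j χ : G → ℂ) u = (μ (ν u') : ℂ) ^ j * (a j χ : G → ℂ) 1 := fun j χ => by
    have h3 := congrFun (sp_ast h (irr_isClassFunction (infl φ hφ χ.1)) (hη j) hu) 1
    rw [← haη, ra_sp h hB hu hc (ha j χ), Pi.smul_apply, ra_sp h hB hu hc χ.2, hηu j u hu, infl_ker φ hφ _ hk,
      smul_eq_mul] at h3
    rw [h3, ha1]
  have hF : Function.Injective fun x : Fin (p ^ (n + 1)) × (infl φ hφ ⁻¹' B) => (⟨a x.1 x.2, ha _ _⟩ : B) := by
    rintro ⟨i, χ⟩ ⟨j, ψ⟩ hij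
    have e1 : a i χ = a j ψ := congrArg Subtype.val hij
    have e2 := hau i χ
    rw [e1, hau j ψ, mul_left_inj' (irr_one_ne_zero (a j ψ).2), ← Units.val_pow_eq_pow_val,
      ← Units.val_pow_eq_pow_val, Units.val_inj] at e2
    obtain rfl : j = i := Fin.ext (pow_injOn_Iio_orderOf (j.2.trans_eq h2.symm) (i.2.trans_eq h2.symm) e2)
    have e3 : ast hM P e (infl φ hφ χ.1) (η j) = ast hM P e (infl φ hφ ψ.1) (η j) := by
      rw [← haη, ← haη, e1]
    have e4 : ∀ θ : infl φ hφ ⁻¹' B, ast hM P e (ast hM P e (infl φ hφ θ.1) (η j)) (fun g => (η j g)⁻¹) =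
        infl φ hφ θ.1 := fun θ => by
      rw [ast_ast h hB (irr_isClassFunction _) (hη j) ((hη j).map fun z => z⁻¹),
        ast_congr h hB (irr_isClassFunction _) (((hη j).map fun z => z⁻¹).mul (hη j)) stable_one fun v hv => by
          rw [Pi.mul_apply, inv_mul_cancel₀ (by rw [hηu j v hv]; exact pow_ne_zero _ (Units.ne_zero _))]; rfl,
        ast_one h hB (irr_isClassFunction _), blockPart_irr_of_mem (show infl φ hφ θ.1 ∈ B from θ.2)]
    have e5 : (infl φ hφ χ.1 : G → ℂ) = infl φ hφ ψ.1 := by rw [← e4, e3, e4]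
    rw [show χ = ψ from Subtype.ext (infl_injective φ hφ (Subtype.ext e5))]
  have := Nat.card_le_card_of_injective _ hF
  rwa [Nat.card_prod, Nat.card_eq_fintype_card (α := Fin _), Fintype.card_fin] at this

end

end CfsgLib.KKL
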