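import Cfsg.Agent.Lib.KKL.RedA

/-! # Reduction of blocks with defect group `C_{2^n} × 2^3` to the defect group `2^3` -/

set_option autoImplicit false

namespace CfsgLib.KKL

open Cfsg MonoidAlgebra CfsgLib.Char CfsgLib.Block CfsgLib.Blk CfsgLib.Star CfsgLib.Cover
open CfsgLib.BrPair (cS Cz Nz br emb res cj IsBlk SubLE sB cB MaxPair stN)

attribute [local implicit_reducible] CfsgLib.Block.K

universe u

variable {G : Type u} [Group G] [Finite G] {M : Ideal AlgInt}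

section
variable {p : ℕ} [hp : Fact p.Prime] {hM : IsPModular p M} {B : Set (IrrCharacter G)} {P : Subgroup G}
  {e : (K hM)[G]}

theorem rb_dom (h : MaxPair p ⊤ ⊤ (eB hM B) P e) (hab : P ≤ Cz P) {Q : Subgroup G} (hQ : Q ≤ P) :
    ∃ (X : Type u) (_ : Group X) (_ : Finite X) (φ : Cz Q →* X) (hφ : Function.Surjective φ),
      φ.ker = Q.subgroupOf (Cz Q) ∧ IsPBlock M (infl φ hφ ⁻¹' blk hM (Cz Q) (fL P e (Cz Q))) ∧
      IsDefectGroup p M (infl φ hφ ⁻¹' blk hM (Cz Q) (fL P e (Cz Q))) ((P.subgroupOf (Cz Q)).map φ) ∧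
      blockRank p (infl φ hφ ⁻¹' blk hM (Cz Q) (fL P e (Cz Q))) = rk hM (Cz Q) (fL P e (Cz Q)) ∧
      Nat.card ((P.subgroupOf (Cz Q)).map φ) * Nat.card Q = Nat.card P ∧
      ((∀ x ∈ P, x ^ 2 ∈ Q) → ∀ y ∈ (P.subgroupOf (Cz Q)).map φ, y ^ 2 = 1) := by
  classical
  have hZ : Q.subgroupOf (Cz Q) ≤ Subgroup.center (Cz Q) := fun x hx =>
    Subgroup.mem_center_iff.2 fun g => Subtype.ext (BrPair.mem_Cz.1 g.2 x hx).symm
  have hN : (Q.subgroupOf (Cz Q)).Normal := ⟨fun x hx g => by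
    rwa [Subgroup.mem_center_iff.1 (hZ hx) g, mul_inv_cancel_right]⟩
  have := Fintype.ofFinite (Cz Q)
  have := Fintype.ofFinite (Cz Q ⧸ Q.subgroupOf (Cz Q))
  have hf := isPBlock_blk (isBlk_fL h hab hQ)
  have h1 := maxPair_sub (maxPair_fL h hab hQ)
  have hk := QuotientGroup.ker_mk' (Q.subgroupOf (Cz Q))
  have hs := QuotientGroup.mk'_surjective (Q.subgroupOf (Cz Q))
  have hP : IsPGroup p (QuotientGroup.mk' (Q.subgroupOf (Cz Q))).ker := by
    rw [hk]; exact (h.pgroup.to_le hQ).comap_subtype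
  refine ⟨_, _, inferInstance, _, hs, hk, isPBlock_dom hs hP (hk.le.trans hZ) hM hf,
    isDefectGroup_dom hs hP (hk.le.trans hZ) hM hf ((BrPair.isDefectGroup_iff hM hf).2 h1.isDef),
    blockRank_dom hs hP (hk.le.trans hZ) hM hf, ?_, ?_⟩
  · rw [← Subgroup.relIndex_ker, hk, Subgroup.relIndex_subgroupOf (le_Cz_of_ab hab hQ),
      ← Nat.card_congr (Subgroup.subgroupOfEquivOfLe hQ).toEquiv]
    exact (Q.subgroupOf P).index_mul_card
  · rintro h2 _ ⟨x, hx, rfl⟩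
    rw [← map_pow, ← MonoidHom.mem_ker, hk]
    exact h2 x hx

theorem rb_rank_bu (h : MaxPair p ⊤ ⊤ (eB hM B) P e) (hab : P ≤ Cz P) {v : G} (hv : v ∈ P) :
    blockRank p (bu hM P e v) = rk hM (Cz (Subgroup.zpowers v)) (fL P e (Cz (Subgroup.zpowers v))) := by
  rw [fL_eq_of_subLE h hab (Subgroup.zpowers_le.2 hv) (subLE_su h hv), Cz_zpowers]
  exact (rk_sB (isPBlock_bu h hv)).symm

end

variable [hp : Fact (Nat.Prime 2)] {hM : IsPModular 2 M} {B : Set (IrrCharacter G)} {P : Subgroup G} {e : (K hM)[G]}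

theorem rb_rk (h : MaxPair 2 ⊤ ⊤ (eB hM B) P e) (hab : P ≤ Cz P) {Q : Subgroup G} (hQ : Q ≤ P)
    (h4 : 4 * Nat.card Q = Nat.card P) (h2 : ∀ x ∈ P, x ^ 2 ∈ Q) :
    rk hM (Cz Q) (fL P e (Cz Q)) = 1 ∨ rk hM (Cz Q) (fL P e (Cz Q)) = 3 := by
  obtain ⟨X, _, _, φ, hφ, -, a1, a2, a3, a4, a5⟩ := rb_dom h hab hQ
  rw [← a3]
  exact ra_klein hM a1 a2 (Nat.eq_of_mul_eq_mul_right Nat.card_pos (a4.trans h4.symm)) (a5 h2)

omit hp in
theorem rb_eight (hM : IsPModular 2 M) (hB : IsPBlock M B) (hD : IsDefectGroup 2 M B P) (h8 : Nat.card P = 8)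
    (h2 : ∀ x ∈ P, x ^ 2 = 1) (hk : Nat.card B = 8) :
    blockRank 2 B = 1 ∨ blockRank 2 B = 3 ∨ blockRank 2 B = 5 ∨ blockRank 2 B = 7 := by
  classical
  have : Fact (Nat.Prime 2) := ⟨Nat.prime_two⟩
  have := Fintype.ofFinite G
  have : ∀ u : G, Fintype (Cu u) := fun u => Fintype.ofFinite _
  obtain ⟨e, h⟩ := BrPair.exists_maxPair_of_isDef le_rfl BrPair.top_le_Nz_top (BrPair.isBlk_eB hM hB)
    ((BrPair.isDefectGroup_iff hM hB).1 hD)
  have hi : ∀ x ∈ P, x⁻¹ = x := fun x hx => inv_eq_of_mul_eq_one_right (by rw [← sq, h2 x hx])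
  have hab : P ≤ Cz P := fun x hx y hy => by
    rw [← hi _ (P.mul_mem hy hx), mul_inv_rev, hi x hx, hi y hy]
  obtain ⟨R, hR, -⟩ := exists_isFReps h
  have h1 := hR.one_mem h
  have e1 := card_eq_sum_reps h hB hR
  have e2 := sum_cl hR
  rw [← Finset.add_sum_erase _ _ h1, rank_bu_one h hB, hk] at e1
  rw [← Finset.add_sum_erase _ _ h1, cl_one h, h8] at e2
  have e3 : (∑ u ∈ R.erase 1, blockRank 2 (bu hM P e u)) % 2 = (∑ u ∈ R.erase 1, cl 2 P e u) % 2 := by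
    rw [Finset.sum_nat_mod, Finset.sum_nat_mod _ _ (cl 2 P e)]
    congr 1
    refine Finset.sum_congr rfl fun u hu => ?_
    have hu1 := hR.1 u (Finset.mem_of_mem_erase hu)
    have a1 := rb_rk h hab (Subgroup.zpowers_le.2 hu1) (by
      rw [Nat.card_zpowers, orderOf_eq_prime (h2 u hu1) (Finset.ne_of_mem_erase hu), h8])
      fun x hx => by rw [h2 x hx]; exact one_mem _
    have a2 : ¬ 2 ∣ cl 2 P e u := fun a2 => ab_not_dvd_relIndex h hab (by
      rw [ab_cl h hab hu1] at a2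
      exact a2.trans (Subgroup.relIndex_dvd_of_le_left _ fun x hx => mem_Cu.2 (BrPair.mem_Cz.1 hx u hu1)))
    rw [rb_rank_bu h hab hu1]
    omega
  omega

theorem rb_ht (h : MaxPair 2 ⊤ ⊤ (eB hM B) P e) (hab : P ≤ Cz P) (hB : IsPBlock M B) {z : G} (hz : z ∈ P)
    (hl : blockRank 2 (bu hM P e z) ≤ 3) (hk : Nat.card P ≤ Nat.card B) :
    Nat.card B = Nat.card P ∧ ∀ χ ∈ B, blockHeight 2 B (χ : G → ℂ) = 0 := by
  classical
  have := Fintype.ofFinite G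
  have hc := ab_le_Cu h hab hz
  obtain ⟨h1, h2⟩ := Cfsg.Agent.S4540.result M hM B hB P ((BrPair.isDefectGroup_iff hM hB).2 h.isDef) z hz
    (fun d hd => (mem_Cu.1 (hc hd)).symm) _ (induced_bu h hB hz)
    ((BrPair.isDefectGroup_iff_map hM (isPBlock_bu h hz)).2 (by
      rw [Subgroup.map_subgroupOf_eq_of_le hc]; exact isDef_su_of_central h hz hc)) hl
  rw [pow_defect_eq_card' h hB] at h2
  refine ⟨by omega, ?_⟩
  have hc0 : Nat.card {χ : IrrCharacter G // χ ∈ B ∧ blockHeight 2 B (χ : G → ℂ) = 0} =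
      ((bf B).filter fun χ : IrrCharacter G => blockHeight 2 B (χ : G → ℂ) = 0).card := by
    rw [Nat.subtype_card]
    intro χ; simp [mem_bf]
  have hs : bf {χ : IrrCharacter G | χ ∈ B ∧ 1 ≤ blockHeight 2 B (χ : G → ℂ)} =
      (bf B).filter fun χ : IrrCharacter G => ¬ blockHeight 2 B (χ : G → ℂ) = 0 := by
    ext χ; simp [mem_bf, Nat.one_le_iff_ne_zero]
  rw [hc0, finsum_bf, hs] at h2
  rw [card_bf, ← Finset.card_filter_add_card_filter_not (s := bf B)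
    (fun χ : IrrCharacter G => blockHeight 2 B (χ : G → ℂ) = 0)] at hk
  have h3 := Finset.card_nsmul_le_sum ((bf B).filter fun χ : IrrCharacter G => ¬ blockHeight 2 B (χ : G → ℂ) = 0)
    (fun χ => 2 ^ blockHeight 2 B (χ : G → ℂ)) 2 fun χ hχ =>
      Nat.le_self_pow (Finset.mem_filter.1 hχ).2 2
  rw [smul_eq_mul] at h3
  intro χ hχ
  by_contra h0
  have : 0 < ((bf B).filter fun χ : IrrCharacter G => ¬ blockHeight 2 B (χ : G → ℂ) = 0).card :=
    Finset.card_pos.2 ⟨χ, Finset.mem_filter.2 ⟨mem_bf.2 hχ, h0⟩⟩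
  omega

end CfsgLib.KKL
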